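import Groth.Agent.DerivedCoh.ResProp.Efface
import Mathlib.Algebra.Homology.HomotopyCategory.HomComplexSingle
import Mathlib.Algebra.Homology.Refinements

/-!
Maps from shifted finite locally free modules to complexes of quasi-coherent modules in the derived
category are chain maps after an epimorphism.
-/

universe u

open CategoryTheory CategoryTheory.Limits CategoryTheory.Pretriangulated AlgebraicGeometry HomologicalComplex

namespace Groth.DerivedCoh.ResProp

attribute [local instance] HasDerivedCategory.standard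
set_option linter.style.haveILetI false

local notation "up" => ComplexShape.up ℤ

variable {X : Scheme.{u}}

/-- modules in degree `m` of the derived category -/
noncomputable abbrev S (m : ℤ) : X.Modules ⥤ DCoh.D X := single X.Modules up m ⋙ DerivedCategory.Q

/-- shifting back to degree zero -/
noncomputable def sShift (m : ℤ) :
    S (X := X) m ⋙ shiftFunctor (DCoh.D X) m ≅ DerivedCategory.singleFunctor X.Modules 0 :=
  Functor.isoWhiskerRight (DerivedCategory.singleFunctorIsoCompQ X.Modules m).symm _ ≪≫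
    (DerivedCategory.singleFunctors X.Modules).shiftIso m 0 m (add_zero m)

instance isLE_S (m : ℤ) (A : X.Modules) : ((S m).obj A).IsLE m :=
  (DerivedCategory.isLE_iff _ _).2 fun i hi =>
    (isZero_single_obj_homology up m A i (by omega)).of_iso
      ((DerivedCategory.homologyFunctorFactors X.Modules i).app _)

variable [CompactSpace X] [QuasiSeparatedSpace X]

/-- maps to objects below the degree are effaceable -/
theorem exists_killedAt (hX : PerfAux.HasResolutionProperty X) {E : X.Modules} (hE : FlatMod.IsFinLocFree E)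
    (m : ℤ) {N : DCoh.D X} (hN : DCoh.IsQCohD N) (a : ℤ) [N.IsGE a] [N.IsLE (m - 1)] (φ : (S m).obj E ⟶ N) :
    ∃ (E' : X.Modules) (π : E' ⟶ E), FlatMod.IsFinLocFree E' ∧ Epi π ∧ (S m).map π ≫ φ = 0 := by
  have hge : (N⟦m⟧).IsGE (a - m) := DerivedCategory.TStructure.t.isGE_shift N a m (a - m) (by omega)
  have hle : (N⟦m⟧).IsLE (-1) := DerivedCategory.TStructure.t.isLE_shift N (m - 1) m (-1) (by omega)
  obtain ⟨E', π, hE', hπ, h⟩ := killed_below hX hE (-(a - m)).toNat _ (a - m)
    (Groth.Misc4.QCohDPerf.isQCohD_shift hN m) hge hle (by omega) ((sShift m).inv.app E ≫ φ⟦m⟧')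
  refine ⟨E', π, hE', hπ, (shiftFunctor (DCoh.D X) m).map_injective ?_⟩
  rw [Functor.map_zero, Functor.map_comp, ← cancel_epi ((sShift m).inv.app E'), comp_zero, ← h,
    ← Category.assoc, ← Category.assoc]
  exact congrArg (· ≫ φ⟦m⟧') ((sShift m).inv.naturality π).symm

omit [CompactSpace X] [QuasiSeparatedSpace X] in
/-- maps from degree `m` to objects in degrees `≥ m` are detected by `H^m` -/
theorem eq_zero_of_homology {A : X.Modules} {m : ℤ} {N : DCoh.D X} [hN : N.IsGE m] (φ : (S m).obj A ⟶ N)
    (h : (DerivedCategory.homologyFunctor X.Modules m).map φ = 0) : φ = 0 := by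
  obtain ⟨K, B, hK, hB, i, p, δ, hT⟩ := DerivedCategory.TStructure.t.exists_triangle N m (m + 1) rfl
  let T := Triangle.mk i p δ
  haveI : K.IsLE m := ⟨hK⟩
  haveI : B.IsGE (m + 1) := ⟨hB⟩
  haveI : K.IsGE m := (DerivedCategory.isGE_iff K m).2 fun q hq =>
    (DerivedCategory.HomologySequence.exact₁ T hT (q - 1) q).isZero_X₂
      ((DerivedCategory.isZero_of_isGE B (m + 1) (q - 1) (by omega)).eq_of_src _ _)
      ((DerivedCategory.isZero_of_isGE N m q hq).eq_of_tgt _ _)
  haveI : Mono ((DerivedCategory.homologyFunctor X.Modules m).map T.mor₁) :=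
    (DerivedCategory.HomologySequence.mono_homologyMap_mor₁_iff T hT (m - 1) m).2
      ((DerivedCategory.isZero_of_isGE B (m + 1) (m - 1) (by omega)).eq_of_src _ _)
  obtain ⟨ψ, hψ⟩ := Triangle.coyoneda_exact₂ T hT φ
    (by
      haveI : DerivedCategory.TStructure.t.IsGE T.obj₃ (m + 1) := ‹B.IsGE (m + 1)›
      exact DerivedCategory.TStructure.t.zero _ m (m + 1) (by omega))
  have hψ0 : (DerivedCategory.homologyFunctor X.Modules m).map ψ = 0 := by
    rw [← cancel_mono ((DerivedCategory.homologyFunctor X.Modules m).map T.mor₁), zero_comp,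
      ← Functor.map_comp]
    exact (congrArg _ hψ).symm.trans h
  obtain ⟨V, ⟨e⟩⟩ : ∃ V, Nonempty (T.obj₁ ≅ (DerivedCategory.singleFunctor X.Modules m).obj V) :=
    DerivedCategory.exists_iso_singleFunctor_obj_of_isGE_of_isLE K m
  let a : (DerivedCategory.singleFunctor X.Modules m).obj A ≅ (S m).obj A :=
    (DerivedCategory.singleFunctorIsoCompQ X.Modules m).app A
  obtain ⟨g, hg⟩ := (DerivedCategory.singleFunctor X.Modules m).map_surjective (a.hom ≫ ψ ≫ e.hom)
  have hg0 : g = 0 := by
    have h1 := NatIso.naturality_1 (DerivedCategory.singleFunctorCompHomologyFunctorIso X.Modules m) g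
    refine (show g = _ from h1.symm).trans ?_
    rw [Functor.comp_map, hg, Functor.map_comp, Functor.map_comp, hψ0]
    simp
    rfl
  rw [hg0, Functor.map_zero] at hg
  have : ψ = 0 := (cancel_epi a.hom).1 ((cancel_mono e.hom).1
    ((Category.assoc _ _ _).trans (hg.symm.trans (by rw [comp_zero, zero_comp]))))
  rw [hψ, this]
  exact zero_comp

variable {F : CochainComplex X.Modules ℤ}

omit [CompactSpace X] [QuasiSeparatedSpace X] in
theorem isQCoh_cycles (hF : ∀ i, (F.X i).IsQuasicoherent) (i : ℤ) : (F.cycles i).IsQuasicoherent := by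
  haveI := hF
  exact (SheafOfModules.isQuasicoherent (R := X.ringCatSheaf)).prop_of_iso
    ((kernelIsKernel (F.d i (i + 1))).conePointUniqueUpToIso (F.cyclesIsKernel i (i + 1) (by simp)))
    (Groth.QCohMod.isQCoh_kernel _)

omit [CompactSpace X] [QuasiSeparatedSpace X] in
theorem isQCoh_homology (hF : ∀ i, (F.X i).IsQuasicoherent) (i : ℤ) : (F.homology i).IsQuasicoherent := by
  haveI := hF
  haveI := isQCoh_cycles hF i
  exact (SheafOfModules.isQuasicoherent (R := X.ringCatSheaf)).prop_of_iso
    ((cokernelIsCokernel (F.toCycles (i - 1) i)).coconePointUniqueUpToIso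
      (F.homologyIsCokernel (i - 1) i (by simp)))
    (Groth.QCohMod.isQCoh_cokernel _)

/-- chain maps from degree `m` vanishing in the derived category bound, after an epimorphism -/
theorem exists_null (hX : PerfAux.HasResolutionProperty X) (hF : ∀ i, (F.X i).IsQuasicoherent)
    {E : X.Modules} (hE : FlatMod.IsFinLocFree E) {m : ℤ} (x : E ⟶ F.X m) (hx : x ≫ F.d m (m + 1) = 0)
    (h : DerivedCategory.Q.map (mkHomFromSingle x (fun k (hk : m + 1 = k) => hk ▸ hx)) = 0) :
    ∃ (E' : X.Modules) (π : E' ⟶ E) (s : E' ⟶ F.X (m - 1)), FlatMod.IsFinLocFree E' ∧ Epi π ∧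
      s ≫ F.d (m - 1) m = π ≫ x := by
  haveI := hF
  let c := F.liftCycles x (m + 1) (by simp) hx
  have hc : c ≫ F.homologyπ m = 0 := by
    let f := mkHomFromSingle x (fun k (hk : m + 1 = k) => hk ▸ hx)
    have h1 : homologyMap f m = 0 := by
      have h2 := (DerivedCategory.homologyFunctorFactors X.Modules m).hom.naturality f
      simp only [Functor.comp_map, homologyFunctor_map] at h2
      rw [h, Functor.map_zero, zero_comp] at h2
      exact (cancel_epi ((DerivedCategory.homologyFunctorFactors X.Modules m).hom.app _)).1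
        (h2.symm.trans comp_zero.symm)
    let P := (single X.Modules up m).obj E
    let t : E ⟶ P.cycles m := P.liftCycles (singleObjXSelf up m E).inv (m + 1) (by simp)
      ((isZero_single_obj_X up m E (m + 1) (by omega)).eq_of_tgt _ _)
    have ht : t ≫ cyclesMap f m = c := by
      rw [← cancel_mono (F.iCycles m)]
      simp [t, c, f]
    rw [← ht, Category.assoc, ← homologyπ_naturality, h1, comp_zero, comp_zero]
  haveI := isQCoh_cycles hF m
  haveI := isQCoh_homology hF m
  haveI : Epi (kernel.lift (F.homologyπ m) (F.toCycles (m - 1) m) (F.toCycles_comp_homologyπ _ _)) :=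
    (ShortComplex.exact_of_g_is_cokernel (ShortComplex.mk (F.toCycles (m - 1) m) (F.homologyπ m)
      (F.toCycles_comp_homologyπ _ _)) (F.homologyIsCokernel (m - 1) m (by simp))).epi_kernelLift
  obtain ⟨E', π, s, hE', hπ, hs⟩ := exists_lift_after_epi hX
    (kernel.lift (F.homologyπ m) (F.toCycles (m - 1) m) (F.toCycles_comp_homologyπ _ _)) hE
    (kernel.lift _ c hc)
  refine ⟨E', π, s, hE', hπ, ?_⟩
  have h1 := congrArg (· ≫ kernel.ι (F.homologyπ m) ≫ F.iCycles m) hs
  simpa [c] using h1

/-- maps from degree `m` in the derived category are chain maps after an epimorphism -/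
theorem exists_rep_map (hX : PerfAux.HasResolutionProperty X) (hF : ∀ i, (F.X i).IsQuasicoherent) (a b : ℤ)
    [F.IsStrictlyGE a] [F.IsStrictlyLE b]
    {E : X.Modules} (hE : FlatMod.IsFinLocFree E) {m : ℤ} (φ : (S m).obj E ⟶ DerivedCategory.Q.obj F) :
    ∃ (E' : X.Modules) (π : E' ⟶ E) (f : (single X.Modules up m).obj E' ⟶ F),
      FlatMod.IsFinLocFree E' ∧ Epi π ∧ (S m).map π ≫ φ = DerivedCategory.Q.map f := by
  haveI := hF
  haveI := isQCoh_cycles hF m
  haveI := isQCoh_homology hF m
  let H := DerivedCategory.homologyFunctor X.Modules m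
  let ν := DerivedCategory.homologyFunctorFactors X.Modules m
  let h : E ⟶ F.homology m :=
    (singleObjHomologySelfIso up m E).inv ≫ (ν.app _).inv ≫ H.map φ ≫ (ν.app F).hom
  obtain ⟨E₁, π₁, z, hE₁, hπ₁, hz⟩ := exists_lift_after_epi hX (F.homologyπ m) hE h
  let x := z ≫ F.iCycles m
  let f₁ := mkHomFromSingle x (fun k (_ : m + 1 = k) => by
    rw [Category.assoc, iCycles_d, comp_zero])
  let ψ : (S m).obj E₁ ⟶ DerivedCategory.Q.obj F :=
    (S m).map π₁ ≫ φ - (show (S m).obj E₁ ⟶ DerivedCategory.Q.obj F from DerivedCategory.Q.map f₁)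
  have hψ : H.map ψ = 0 := by
    rw [Functor.map_sub, sub_eq_zero, Functor.map_comp]
    rw [← cancel_mono (ν.app F).hom, ← cancel_epi ((ν.app _).inv)]
    have e1 : (ν.app _).inv ≫ H.map (DerivedCategory.Q.map f₁) ≫ (ν.app F).hom = homologyMap f₁ m := by
      exact NatIso.naturality_1 ν f₁
    have e2 : (ν.app ((single X.Modules up m).obj E₁)).inv ≫ H.map ((S m).map π₁) =
        homologyMap ((single X.Modules up m).map π₁) m ≫ (ν.app _).inv :=
      (ν.inv.naturality ((single X.Modules up m).map π₁)).symm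
    refine Eq.trans ?_ e1.symm
    refine ((Category.assoc _ _ _).symm.trans ?_)
    refine (congrArg (· ≫ (ν.app F).hom) ((Category.assoc _ _ _).symm.trans (congrArg (· ≫ H.map φ) e2))).trans ?_
    refine ((Category.assoc _ _ _).trans (Category.assoc _ _ _)).trans ?_
    refine (cancel_epi (singleObjHomologySelfIso up m E₁).inv).1 ?_
    let P := (single X.Modules up m).obj E₁
    let t : E₁ ⟶ P.cycles m := P.liftCycles (singleObjXSelf up m E₁).inv (m + 1) (by simp)
      ((isZero_single_obj_X up m E₁ (m + 1) (by omega)).eq_of_tgt _ _)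
    have ht : t ≫ cyclesMap f₁ m = z := by
      rw [← cancel_mono (F.iCycles m)]
      simp [t, x, f₁]
    have hs : (singleObjHomologySelfIso up m E₁).inv = t ≫ P.homologyπ m := by
      dsimp only [P]
      rw [← cancel_mono (singleObjHomologySelfIso up m E₁).hom, Iso.inv_hom_id, Category.assoc,
        ← cancel_mono (singleObjXSelf up m E₁).inv, Category.assoc, Category.assoc,
        homologyπ_singleObjHomologySelfIso_hom_assoc]
      simp [t, P, singleObjCyclesSelfIso]
    have e3 : (singleObjHomologySelfIso up m E₁).inv ≫ homologyMap ((single X.Modules up m).map π₁) m =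
        π₁ ≫ (singleObjHomologySelfIso up m E).inv :=
      (singleObjHomologySelfIso_inv_naturality up m π₁)
    refine ((Category.assoc _ _ _).symm.trans ((congrArg (· ≫ _) e3).trans (Category.assoc _ _ _))).trans ?_
    refine hz.symm.trans ?_
    refine Eq.trans ?_ (congrArg (· ≫ homologyMap f₁ m) hs).symm
    refine Eq.trans ?_ (Category.assoc _ _ _).symm
    refine Eq.trans ?_ (congrArg (t ≫ ·) (homologyπ_naturality f₁ m).symm)
    exact ((Category.assoc _ _ _).symm.trans (congrArg (· ≫ F.homologyπ m) ht)).symm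
  haveI : (DerivedCategory.Q.obj F).IsGE a := inferInstance
  haveI : (DerivedCategory.Q.obj F).IsLE b := inferInstance
  obtain ⟨A, B, hA, hB, i, p, δ, hT⟩ :=
    DerivedCategory.TStructure.t.exists_triangle (DerivedCategory.Q.obj F) (m - 1) m (by omega)
  let T := Triangle.mk i p δ
  haveI : A.IsLE (m - 1) := ⟨hA⟩
  haveI : B.IsGE m := ⟨hB⟩
  haveI : A.IsGE (min a m) := (DerivedCategory.isGE_iff A _).2 fun q hq =>
    (DerivedCategory.HomologySequence.exact₁ T hT (q - 1) q).isZero_X₂
      ((DerivedCategory.isZero_of_isGE B m (q - 1) (by omega)).eq_of_src _ _)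
      ((DerivedCategory.isZero_of_isGE (DerivedCategory.Q.obj F) a q (by omega)).eq_of_tgt _ _)
  have hAq : DCoh.IsQCohD A := fun q => by
    by_cases hq : q ≤ m - 1
    · haveI : Mono ((DerivedCategory.homologyFunctor X.Modules q).map T.mor₁) :=
        (DerivedCategory.HomologySequence.mono_homologyMap_mor₁_iff T hT (q - 1) q).2
          ((DerivedCategory.isZero_of_isGE B m (q - 1) (by omega)).eq_of_src _ _)
      haveI : Epi ((DerivedCategory.homologyFunctor X.Modules q).map T.mor₁) :=
        (DerivedCategory.HomologySequence.epi_homologyMap_mor₁_iff T hT q).2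
          ((DerivedCategory.isZero_of_isGE B m q (by omega)).eq_of_tgt _ _)
      haveI := isIso_of_mono_of_epi ((DerivedCategory.homologyFunctor X.Modules q).map T.mor₁)
      exact (SheafOfModules.isQuasicoherent (R := X.ringCatSheaf)).prop_of_iso
        (asIso ((DerivedCategory.homologyFunctor X.Modules q).map T.mor₁) ≪≫ KFlat.hdIso F q).symm
        (isQCoh_homology hF q)
    · exact Groth.Misc4.QCohDPerf.isQCoh_isZero (DerivedCategory.isZero_of_isLE A (m - 1) q (by omega))
  haveI : T.obj₃.IsGE m := ‹B.IsGE m›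
  have h0 : ψ ≫ T.mor₂ = 0 := eq_zero_of_homology _ (by rw [Functor.map_comp, hψ, zero_comp])
  obtain ⟨χ, hχ⟩ := Triangle.coyoneda_exact₂ T hT ψ h0
  obtain ⟨E₂, π₂, hE₂, hπ₂, h₂⟩ := exists_killedAt hX hE₁ m hAq (min a m) χ
  refine ⟨E₂, π₂ ≫ π₁, (single X.Modules up m).map π₂ ≫ f₁, hE₂, epi_comp _ _, ?_⟩
  have h3 : (S m).map π₂ ≫ ψ = 0 := by
    rw [hχ]
    exact (Category.assoc _ _ _).symm.trans ((congrArg (· ≫ T.mor₁) h₂).trans zero_comp)
  rw [Preadditive.comp_sub, sub_eq_zero] at h3
  rw [Functor.map_comp, Category.assoc, h3, DerivedCategory.Q.map_comp]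
  rfl

end Groth.DerivedCoh.ResProp
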