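import Mathlib.Algebra.Homology.HomotopyCategory.Pretriangulated
import Mathlib.Algebra.Homology.HomotopyCategory.HomComplexSingle
import Mathlib.Algebra.Homology.Refinements

/-!
# Attaching one object to an approximation of a complex
-/

universe v u

open CategoryTheory CategoryTheory.Limits CochainComplex HomComplex

namespace Groth.DerivedCoh.ResProp

variable {A : Type u} [Category.{v} A] [Abelian A] {E F : CochainComplex A ℤ} (φ : E ⟶ F)

local notation "up" => ComplexShape.up ℤ

/-- killing the cohomology in degree `n - 1` of the cone of `φ` by one more term -/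
theorem exists_attach (n : ℤ) (hE : ∀ i, i < n → IsZero (E.X i)) {E₀ : A}
    (e : E₀ ⟶ (mappingCone φ).X (n - 1)) (he : e ≫ (mappingCone φ).d (n - 1) n = 0)
    (hex : ∀ i, n ≤ i → (mappingCone φ).ExactAt i)
    (hsurj : ∀ ⦃A₀ : A⦄ (x : A₀ ⟶ (mappingCone φ).X (n - 1)), x ≫ (mappingCone φ).d (n - 1) n = 0 →
      ∃ (A' : A) (π : A' ⟶ A₀) (_ : Epi π) (y : A' ⟶ E₀) (z : A' ⟶ (mappingCone φ).X (n - 2)),
        π ≫ x = y ≫ e + z ≫ (mappingCone φ).d (n - 2) (n - 1)) :
    ∃ (E' : CochainComplex A ℤ) (φ' : E' ⟶ F),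
      (∀ i, i ≠ n - 1 → Nonempty (E'.X i ≅ E.X i)) ∧ Nonempty (E'.X (n - 1) ≅ E₀) ∧
      (∀ i, n - 1 ≤ i → (mappingCone φ').ExactAt i) ∧
      (IsZero (F.X (n - 2)) → Mono e → (mappingCone φ').ExactAt (n - 2)) := by
  let e₁ : E₀ ⟶ E.X n := e ≫ (mappingCone.fst φ).1.v (n - 1) n (by omega)
  let e₂ : E₀ ⟶ F.X (n - 1) := e ≫ (mappingCone.snd φ).v (n - 1) (n - 1) (add_zero _)
  have hdec : e = e₁ ≫ (mappingCone.inl φ).v n (n - 1) (by omega) + e₂ ≫ (mappingCone.inr φ).f (n - 1) := by
    simp only [e₁, e₂, Category.assoc, ← Preadditive.comp_add, mappingCone.id_X, Category.comp_id]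
  have h₁ : e₁ ≫ E.d n (n + 1) = 0 := by
    have := congrArg (· ≫ (mappingCone.fst φ).1.v n (n + 1) rfl) he
    simp only [Category.assoc, zero_comp, mappingCone.d_fst_v φ (n - 1) n (n + 1) (by omega) rfl,
      Preadditive.comp_neg, neg_eq_zero, Preadditive.neg_comp] at this
    simpa [e₁] using this
  have h₂ : e₁ ≫ φ.f n + e₂ ≫ F.d (n - 1) n = 0 := by
    have := congrArg (· ≫ (mappingCone.snd φ).v n n (add_zero n)) he
    simp only [Category.assoc, zero_comp, mappingCone.d_snd_v φ (n - 1) n (by omega),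
      Preadditive.comp_add] at this
    simpa [e₁, e₂] using this
  let S : CochainComplex A ℤ := (singleFunctor A n).obj E₀
  let s : S ⟶ E := HomologicalComplex.mkHomFromSingle e₁ fun k hk => by
    obtain rfl : n + 1 = k := hk
    exact h₁
  have hsn : s.f n = (HomologicalComplex.singleObjXSelf up n E₀).hom ≫ e₁ :=
    HomologicalComplex.mkHomFromSingle_f _ _
  have hS : ∀ i, i ≠ n → IsZero (S.X i) := fun i hi => HomologicalComplex.isZero_single_obj_X up n E₀ i hi
  let α : Cochain S F (-1) := Cochain.fromSingleMk (-e₂) (show n + -1 = n - 1 by omega)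
  have eq : δ (-1) 0 α = Cochain.ofHom (s ≫ φ) := by
    simp only [α, S]
    rw [Cochain.δ_fromSingleMk _ _ 0 n (by omega)]
    ext p
    by_cases hp : p = n
    · subst hp
      rw [Cochain.fromSingleMk_v, Cochain.ofHom_v, HomologicalComplex.comp_f, hsn]
      refine Eq.trans ?_ (Category.assoc _ _ _).symm
      exact congrArg (_ ≫ ·) ((Preadditive.neg_comp _ _).trans (eq_neg_of_add_eq_zero_left h₂).symm)
    · exact (hS p hp).eq_of_src _ _
  let φ' : mappingCone s ⟶ F := mappingCone.desc s α φ eq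
  have hinr : ∀ i, i + 1 ≠ n → IsIso ((mappingCone.inr s).f i) := fun i hi =>
    ⟨(mappingCone.snd s).v i i (add_zero i), mappingCone.inr_f_snd_v s i, by
      rw [mappingCone.ext_from_iff s (i + 1) i rfl]
      exact ⟨(hS (i + 1) hi).eq_of_src _ _, by simp⟩⟩
  have comm : φ ≫ 𝟙 F = mappingCone.inr s ≫ φ' := by
    rw [Category.comp_id]
    ext p
    simp [φ']
  let μ : mappingCone φ ⟶ mappingCone φ' := mappingCone.map φ φ' (mappingCone.inr s) (𝟙 F) comm
  have hμl : ∀ p q (h : p + -1 = q), (mappingCone.inl φ).v p q h ≫ μ.f q =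
      (mappingCone.inr s).f p ≫ (mappingCone.inl φ').v p q h := fun p q h => by
    simp [μ, mappingCone.map]
  have hμr : ∀ q, (mappingCone.inr φ).f q ≫ μ.f q = (mappingCone.inr φ').f q := fun q => by
    simp [μ, mappingCone.map]
  have hμ : ∀ i, n - 1 ≤ i → IsIso (μ.f i) := fun i hi => by
    haveI := hinr (i + 1) (by omega)
    refine ⟨(mappingCone.fst φ').1.v i (i + 1) rfl ≫ inv ((mappingCone.inr s).f (i + 1)) ≫
      (mappingCone.inl φ).v (i + 1) i (by omega) +
      (mappingCone.snd φ').v i i (add_zero i) ≫ (mappingCone.inr φ).f i, ?_, ?_⟩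
    · rw [mappingCone.ext_from_iff φ (i + 1) i rfl]
      constructor
      · rw [reassoc_of% (hμl (i + 1) i (by omega))]
        simp
      · rw [reassoc_of% (hμr i)]
        simp
    · rw [Preadditive.add_comp]
      simp only [Category.assoc]
      rw [hμl, hμr, IsIso.inv_hom_id_assoc, mappingCone.id_X]
  have hl₁ : IsIso ((mappingCone.inl s).v n (n - 1) (by omega)) :=
    ⟨(mappingCone.fst s).1.v (n - 1) n (by omega), mappingCone.inl_v_fst_v s n (n - 1) (by omega), by
      rw [mappingCone.ext_from_iff s n (n - 1) (by omega)]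
      exact ⟨by simp, (hE (n - 1) (by omega)).eq_of_src _ _⟩⟩
  obtain ⟨e', he', hep⟩ : ∃ e' : E₀ ⟶ (mappingCone φ').X (n - 2),
      e' ≫ (mappingCone φ').d (n - 2) (n - 1) = -(e ≫ μ.f (n - 1)) ∧ (IsZero (F.X (n - 2)) → Epi e') := by
    refine ⟨(HomologicalComplex.singleObjXSelf up n E₀).inv ≫ (mappingCone.inl s).v n (n - 1) (by omega) ≫
      (mappingCone.inl φ').v (n - 1) (n - 2) (by omega), ?_, fun hF => ?_⟩
    swap
    · haveI := hl₁
      haveI : IsIso ((mappingCone.inl φ').v (n - 1) (n - 2) (by omega)) :=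
        ⟨(mappingCone.fst φ').1.v (n - 2) (n - 1) (by omega), mappingCone.inl_v_fst_v φ' (n - 1) (n - 2) (by omega), by
          rw [mappingCone.ext_from_iff φ' (n - 1) (n - 2) (by omega)]
          exact ⟨by simp, hF.eq_of_src _ _⟩⟩
      exact @IsIso.epi_of_iso _ _ _ _ _ (IsIso.comp_isIso' (Iso.isIso_inv _) (IsIso.comp_isIso' hl₁ inferInstance))
    rw [hdec, Preadditive.add_comp]
    simp only [Category.assoc]
    rw [hμl, hμr]
    have hz : S.d n (n + 1) = 0 := (hS (n + 1) (by omega)).eq_of_tgt _ _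
    simp only [Category.assoc, mappingCone.inl_v_d φ' (n - 1) (n - 2) n (by omega) (by omega),
      Preadditive.comp_sub]
    have k₁ : (mappingCone.inl s).v n (n - 1) (by omega) ≫ (mappingCone s).d (n - 1) n =
        s.f n ≫ (mappingCone.inr s).f n := by
      rw [mappingCone.inl_v_d s n (n - 1) (n + 1) (by omega) (by omega), hz, zero_comp, sub_zero]
    have k₂ : (mappingCone.inl s).v n (n - 1) (by omega) ≫ φ'.f (n - 1) =
        (HomologicalComplex.singleObjXSelf up n E₀).hom ≫ (-e₂) := by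
      rw [mappingCone.inl_v_desc_f s α φ eq n (n - 1) (by omega)]
      exact Cochain.fromSingleMk_v _ _
    let j := HomologicalComplex.singleObjXSelf up n E₀
    refine (congrArg₂ (· - ·)
      (x' := (-e₂) ≫ (mappingCone.inr φ').f (n - 1))
      (y' := e₁ ≫ (mappingCone.inr s).f n ≫ (mappingCone.inl φ').v n (n - 1) (by omega)) ?_ ?_).trans ?_
    · refine ((congrArg (j.inv ≫ ·) ((Category.assoc _ _ _).symm.trans
        (congrArg (· ≫ (mappingCone.inr φ').f (n - 1)) k₂)))).trans ?_
      exact (congrArg (j.inv ≫ ·) (Category.assoc _ _ _)).trans (Iso.inv_hom_id_assoc _ _)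
    · refine ((congrArg (j.inv ≫ ·) ((Category.assoc _ _ _).symm.trans
        (congrArg (· ≫ (mappingCone.inl φ').v n (n - 1) (by omega)) (k₁.trans
          (congrArg (· ≫ (mappingCone.inr s).f n) hsn)))))).trans ?_
      exact (congrArg (j.inv ≫ ·) ((Category.assoc _ _ _).trans (Category.assoc _ _ _))).trans
        (Iso.inv_hom_id_assoc _ _)
    · simp only [Preadditive.neg_comp]
      abel
  refine ⟨mappingCone s, φ', fun i hi => ?_, ?_, fun i hi => ?_, fun hF he₀ => ?_⟩
  · haveI := hinr i (by omega)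
    exact ⟨(asIso ((mappingCone.inr s).f i)).symm⟩
  · haveI := hl₁
    exact ⟨(asIso ((mappingCone.inl s).v n (n - 1) _)).symm ≪≫
      HomologicalComplex.singleObjXSelf up n E₀⟩
  · rcases eq_or_lt_of_le hi with hin | hin
    · subst hin
      rw [HomologicalComplex.exactAt_iff_exact_up_to_refinements _ (n - 2) (n - 1) n (by simp; omega)
        (by simp)]
      intro A₀ x hx
      haveI := hμ (n - 1) le_rfl
      haveI := hμ n (by omega)
      obtain ⟨A', π, hπ, y, z, hyz⟩ := hsurj (x ≫ inv (μ.f (n - 1))) (by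
        rw [← cancel_mono (μ.f n), zero_comp, Category.assoc, Category.assoc, ← μ.comm (n - 1) n,
          IsIso.inv_hom_id_assoc, hx])
      refine ⟨A', π, hπ, -(y ≫ e') + z ≫ μ.f (n - 2), ?_⟩
      have := congrArg (· ≫ μ.f (n - 1)) hyz
      simp only [Category.assoc, IsIso.inv_hom_id, Category.comp_id, Preadditive.add_comp] at this
      rw [this, Preadditive.add_comp, Preadditive.neg_comp, Category.assoc, Category.assoc, he',
        Preadditive.comp_neg, neg_neg, μ.comm (n - 2) (n - 1)]
    · rw [HomologicalComplex.exactAt_iff_exact_up_to_refinements _ (i - 1) i (i + 1) (by simp) (by simp)]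
      intro A₀ x hx
      haveI := hμ i hi
      haveI := hμ (i + 1) (by omega)
      obtain ⟨A', π, hπ, z, hz⟩ :=
        ((HomologicalComplex.exactAt_iff_exact_up_to_refinements _ (i - 1) i (i + 1) (by simp) (by simp)).1
          (hex i (by omega))) (x ≫ inv (μ.f i)) (by
        rw [← cancel_mono (μ.f (i + 1)), zero_comp, Category.assoc, Category.assoc, ← μ.comm i (i + 1),
          IsIso.inv_hom_id_assoc, hx])
      refine ⟨A', π, hπ, z ≫ μ.f (i - 1), ?_⟩
      rw [Category.assoc, μ.comm (i - 1) i, ← reassoc_of% hz]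
      simp
  · rw [HomologicalComplex.exactAt_iff_exact_up_to_refinements _ (n - 3) (n - 2) (n - 1) (by simp; omega)
      (by simp; omega)]
    intro A₀ x hx
    haveI := hep hF
    haveI := hμ (n - 1) le_rfl
    obtain ⟨A', π, hπ, y, hy⟩ := surjective_up_to_refinements_of_epi e' x
    refine ⟨A', π, hπ, 0, ?_⟩
    have h0 : y = 0 := by
      have := congrArg (π ≫ ·) hx
      simp only [reassoc_of% hy, comp_zero, he', Preadditive.comp_neg, neg_eq_zero] at this
      rw [← Category.assoc] at this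
      exact (cancel_mono e).1 ((cancel_mono (μ.f (n - 1))).1 (this.trans zero_comp.symm) |>.trans zero_comp.symm)
    rw [hy, h0, zero_comp, zero_comp]

end Groth.DerivedCoh.ResProp
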