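import Groth.Agent.DerivedCoh.ResProp.Lift
import Groth.Agent.DerivedCoh.ResPropAffineDiag
import Groth.Agent.DerivedCoh.PCoh.ModuleFP
import Groth.Agent.Misc4.PushAcyclicQCoh
import Groth.Agent.Misc4.PushRestrict
import Groth.Agent.Misc4.QCohDPerf
import Groth.Agent.DerivedAdj.Basic
import Groth.Agent.AffineKD.Main
import Groth.Agent.CohBase.RelCechRpush
import Groth.Agent.KTheory.PerfCoh
import Mathlib.Algebra.Homology.DerivedCategory.SingleTriangle

/-!
With the resolution property, a map from a finite locally free module to an object of `D_QCoh` living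
in negative degrees dies after an epimorphism from a finite locally free module.
-/

universe u

open CategoryTheory CategoryTheory.Limits CategoryTheory.Pretriangulated AlgebraicGeometry HomologicalComplex

namespace Groth.DerivedCoh.ResProp

open Groth.KTheory.Perf

attribute [local instance] HasDerivedCategory.standard
set_option linter.style.haveILetI false

local notation "up" => ComplexShape.up ℤ

variable {X : Scheme.{u}}

/-- dies after an epimorphism from a finite locally free module -/
def Killed {E : X.Modules} {C : DCoh.D X} (φ : DCoh.inD X E ⟶ C) : Prop :=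
  ∃ (E' : X.Modules) (π : E' ⟶ E), FlatMod.IsFinLocFree E' ∧ Epi π ∧
    (DerivedCategory.singleFunctor X.Modules 0).map π ≫ φ = 0

lemma Killed.comp {E : X.Modules} {C C' : DCoh.D X} {φ : DCoh.inD X E ⟶ C} (h : Killed φ) (g : C ⟶ C') :
    Killed (φ ≫ g) := by
  obtain ⟨E', π, h₁, h₂, h₃⟩ := h
  exact ⟨E', π, h₁, h₂, by rw [← Category.assoc, h₃, zero_comp]⟩

lemma Killed.of_comp {E : X.Modules} {C C' : DCoh.D X} {φ : DCoh.inD X E ⟶ C} (g : C ⟶ C') [IsIso g]
    (h : Killed (φ ≫ g)) : Killed φ := by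
  have := h.comp (inv g)
  rwa [Category.assoc, IsIso.hom_inv_id, Category.comp_id] at this

/-- `M[0]` in the derived category -/
noncomputable def singleDIso {Y : Scheme.{u}} (M : Y.Modules) :
    DCoh.inD Y M ≅ DCoh.toD Y ((single Y.Modules up 0).obj M) :=
  (DerivedCategory.singleFunctorIsoCompQ _ 0).app M

/-- morphisms vanishing on a cover vanish -/
theorem eq_zero_of_cover {M N : X.Modules} (g : M ⟶ N) {ι : Type*} (U : ι → X.Opens)
    (hcov : ∀ x, ∃ i, x ∈ U i) (h : ∀ i, (Scheme.Modules.restrictFunctor (U i).ι).map g = 0) : g = 0 := by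
  have hz : IsZero (image g) := Groth.KTheory.Perf.isZero_of_local fun x => by
    obtain ⟨i, hi⟩ := hcov x
    refine ⟨U i, hi, ?_⟩
    let R := Scheme.Modules.restrictFunctor (U i).ι
    haveI : Epi (R.map (factorThruImage g)) := inferInstance
    haveI : Mono (R.map (image.ι g)) := inferInstance
    have h1 : R.map (factorThruImage g) = 0 := by
      rw [← cancel_mono (R.map (image.ι g)), zero_comp, ← R.map_comp, image.fac]
      exact h i
    exact IsZero.of_epi_eq_zero _ h1
  rw [← image.fac g, hz.eq_of_tgt (factorThruImage g) 0, zero_comp]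

/-- quasi-coherence of finite direct sums -/
theorem isQCoh_biproduct [HasFiniteBiproducts X.Modules] {n : ℕ} (P : Fin n → X.Modules)
    [∀ i, (P i).IsQuasicoherent] : (⨁ P).IsQuasicoherent := by
  haveI : ∀ j, ((Discrete.functor P).obj j).IsQuasicoherent := fun j ↦ by dsimp; infer_instance
  exact Groth.QCohMod.isQCoh_of_isColimit (Discrete.functor P) (biproduct.bicone P).toCocone
    (biproduct.isColimit P)

/-- direct images of single objects along affine morphisms -/
theorem nonempty_rpush_inD {Y : Scheme.{u}} (f : Y ⟶ X) [IsAffineHom f] [DCoh.HasRpush f] (N : Y.Modules)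
    [hN : N.IsQuasicoherent] :
    Nonempty ((DCoh.Rpush f).obj (DCoh.inD Y N) ≅ DCoh.inD X ((Scheme.Modules.pushforward f).obj N)) := by
  let F := (single Y.Modules up 0).obj N
  have hF : ∀ n, (F.X n).IsQuasicoherent := fun n => by
    by_cases hn : n = 0
    · subst hn
      exact (SheafOfModules.isQuasicoherent (R := Y.ringCatSheaf)).prop_of_iso
        (singleObjXSelf up 0 N).symm hN
    · exact Groth.Misc4.QCohDPerf.isQCoh_isZero (isZero_single_obj_X up 0 N n hn)
  haveI := (Groth.Misc4.PushAcyclicQCoh.isIso_unit_iff f F).2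
    (Groth.Misc4.PushAcyclicQCoh.good_of_acyclic_qcoh f F hF fun n =>
      haveI := hF n
      Groth.Misc4.PushAcyclicQCoh.rightAcyclic_of_isAffineHom f (F.X n))
  let u := asIso (((DCoh.pushKh f).totalRightDerivedUnit DerivedCategory.Qh
    (HomotopyCategory.quasiIso Y.Modules up)).app ((HomotopyCategory.quotient Y.Modules up).obj F))
  exact ⟨(DCoh.Rpush f).mapIso ((singleDIso N) ≪≫
      ((DerivedCategory.quotientCompQhIso Y.Modules).app F).symm) ≪≫ u.symm ≪≫
    (DerivedCategory.quotientCompQhIso X.Modules).app _ ≪≫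
    DerivedCategory.Q.mapIso ((singleMapHomologicalComplex (Scheme.Modules.pushforward f) up 0).app N) ≪≫
    (singleDIso _).symm⟩

/-- on an affine scheme locally free modules have no higher extensions by quasi-coherent ones -/
theorem hom_single_eq_zero [IsAffine X] {E N : X.Modules} (hE : FlatMod.IsFinLocFree E)
    [hN : N.IsQuasicoherent] {m : ℤ} (hm : m ≠ 0)
    (φ : (DerivedCategory.singleFunctor X.Modules m).obj E ⟶ DCoh.inD X N) : φ = 0 := by
  let P := (single X.Modules up m).obj E
  let F := (single X.Modules up 0).obj N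
  have hP : ∀ i, FlatMod.IsFinLocFree (P.X i) := fun i => by
    by_cases hi : i = m
    · subst hi; exact Groth.KTheory.LocFree.isFinLocFree_of_iso (singleObjXSelf up i E).symm hE
    · exact Groth.KTheory.LocFree.isFinLocFree_zero (isZero_single_obj_X up m E i hi)
  have hF : ∀ n, Coh.IsQCoh (F.X n) := fun n => by
    by_cases hn : n = 0
    · subst hn
      exact (SheafOfModules.isQuasicoherent (R := X.ringCatSheaf)).prop_of_iso
        (singleObjXSelf up 0 N).symm hN
    · exact Groth.Misc4.QCohDPerf.isQCoh_isZero (isZero_single_obj_X up 0 N n hn)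
  let a : (DerivedCategory.singleFunctor X.Modules m).obj E ≅ DerivedCategory.Q.obj P :=
    ((SingleFunctors.evaluation _ _ m).mapIso (DerivedCategory.singleFunctorsPostcompQIso X.Modules)).app E
  let b : DCoh.inD X N ≅ DerivedCategory.Q.obj F := singleDIso N
  let qP := (DerivedCategory.quotientCompQhIso X.Modules).app P
  let qF := (DerivedCategory.quotientCompQhIso X.Modules).app F
  obtain ⟨g, hg⟩ := (Groth.Agent.AffineKD.bijective_of_isAffine P F m
    (fun i hi => isZero_single_obj_X up m E i (by omega)) hP hF).2 (qP.hom ≫ a.inv ≫ φ ≫ b.hom ≫ qF.inv)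
  obtain ⟨c, rfl⟩ := (HomotopyCategory.quotient X.Modules up).map_surjective g
  have hc : c = 0 := HomologicalComplex.hom_ext _ _ fun q => by
    by_cases hq : q = m
    · exact (isZero_single_obj_X up 0 N q (by omega)).eq_of_tgt _ _
    · exact (isZero_single_obj_X up m E q hq).eq_of_src _ _
  simp only [hc, Functor.map_zero] at hg
  have h2 : a.hom ≫ (qP.inv ≫ (qP.hom ≫ a.inv ≫ φ ≫ b.hom ≫ qF.inv) ≫ qF.hom) ≫ b.inv = 0 := by
    rw [← hg]; simp
  simpa using h2

/-- maps to shifts of direct images from affine opens vanish -/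
theorem hom_push_eq_zero (U : X.Opens) (hU : IsAffineOpen U) [IsAffineHom U.ι] {E : X.Modules}
    (hE : FlatMod.IsFinLocFree E) (N : (U : Scheme.{u}).Modules) [N.IsQuasicoherent] {k : ℤ} (hk : k ≠ 0)
    (φ : DCoh.inD X E ⟶ (DCoh.inD X ((Scheme.Modules.pushforward U.ι).obj N))⟦k⟧) : φ = 0 := by
  haveI : IsAffine (U : Scheme.{u}) := hU
  haveI : DCoh.HasRpush U.ι := Groth.Misc4.PushRestrict.hasRightDerived _
  haveI : PreservesFiniteColimits (Scheme.Modules.restrictFunctor U.ι) :=
    haveI := (Scheme.Modules.restrictAdjunction U.ι).leftAdjoint_preservesColimits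
    inferInstance
  let adj : DCoh.restrictD U.ι ⊣ DCoh.Rpush U.ι :=
    Groth.DerivedAdj.derivedAdj (Scheme.Modules.restrictAdjunction U.ι)
      (Groth.DerivedCoh.KFlat.enoughKInj (U : Scheme.{u}))
  obtain ⟨e⟩ := nonempty_rpush_inD U.ι N
  refine (shiftFunctor (DCoh.D X) (-k)).map_injective ?_
  let c : ((DCoh.inD X ((Scheme.Modules.pushforward U.ι).obj N))⟦k⟧)⟦-k⟧ ≅
      (DCoh.Rpush U.ι).obj (DCoh.inD (U : Scheme.{u}) N) :=
    (shiftFunctorCompIsoId (DCoh.D X) k (-k) (add_neg_cancel k)).app _ ≪≫ e.symm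
  refine (cancel_mono c.hom).1 ?_
  rw [Functor.map_zero, zero_comp]
  refine (adj.homEquiv _ _).symm.injective ?_
  let a : (Rd U.ι).obj ((DCoh.inD X E)⟦-k⟧) ≅
      (DerivedCategory.singleFunctor (U : Scheme.{u}).Modules k).obj (E.restrict U.ι) :=
    ((Rd U.ι).commShiftIso (-k)).app _ ≪≫ (shiftFunctor _ (-k)).mapIso (PCoh.rdInDIso U.ι E) ≪≫
      (((DerivedCategory.singleFunctors (U : Scheme.{u}).Modules).shiftIso (-k) k 0 (neg_add_cancel k)).app _)
  exact ((cancel_epi a.inv).1 ((hom_single_eq_zero (Groth.LocFree.isFinLocFree_restrict U.ι hE) hk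
    (a.inv ≫ _)).trans (hom_single_eq_zero (Groth.LocFree.isFinLocFree_restrict U.ι hE) hk (a.inv ≫ _)).symm))

variable [CompactSpace X] [QuasiSeparatedSpace X]

/-- the first extension group is effaceable -/
theorem killed_one (hX : PerfAux.HasResolutionProperty X) {E M : X.Modules}
    (hE : FlatMod.IsFinLocFree E) [hM : M.IsQuasicoherent]
    (ξ : DCoh.inD X E ⟶ (DCoh.inD X M)⟦(1 : ℤ)⟧) : Killed ξ := by
  obtain ⟨G, f, g, hT⟩ := distinguished_cocone_triangle₂ ξ
  let T := Triangle.mk f g ξ
  haveI : E.IsQuasicoherent := Groth.PropsBasic.LocFree.isQuasicoherent_of_isFinLocFree _ hE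
  haveI : G.IsGE 0 := DerivedCategory.TStructure.t.isGE₂ T hT 0 (inferInstanceAs ((DCoh.inD X M).IsGE 0))
    (inferInstanceAs ((DCoh.inD X E).IsGE 0))
  haveI : G.IsLE 0 := DerivedCategory.TStructure.t.isLE₂ T hT 0 (inferInstanceAs ((DCoh.inD X M).IsLE 0))
    (inferInstanceAs ((DCoh.inD X E).IsLE 0))
  obtain ⟨G₀, ⟨e⟩⟩ := DerivedCategory.exists_iso_singleFunctor_obj_of_isGE_of_isLE G 0
  let eh : DCoh.HD G 0 ≅ G₀ := (DerivedCategory.homologyFunctor _ 0).mapIso e ≪≫
    (DerivedCategory.singleFunctorCompHomologyFunctorIso X.Modules 0).app G₀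
  haveI : G₀.IsQuasicoherent := (SheafOfModules.isQuasicoherent (R := X.ringCatSheaf)).prop_of_iso eh
    (Groth.Misc4.QCohDPerf.isQCohD_obj₂ T hT (Groth.Misc4.QCohDColim.isQCohD_single M 0)
      (Groth.Misc4.QCohDColim.isQCohD_single E 0) 0)
  obtain ⟨m, hm⟩ := (DerivedCategory.singleFunctor X.Modules 0).map_surjective (e.inv ≫ g)
  have hz : IsZero ((DerivedCategory.homologyFunctor X.Modules 1).obj T.obj₁) :=
    DerivedCategory.isZero_of_isLE (DCoh.inD X M) 0 1 (by omega)
  haveI h1 : Epi ((DerivedCategory.homologyFunctor X.Modules 0).map T.mor₂) :=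
    (DerivedCategory.HomologySequence.epi_homologyMap_mor₂_iff T hT 0 1).2 (hz.eq_of_tgt _ _)
  haveI : Epi ((DerivedCategory.homologyFunctor X.Modules 0).map ((DerivedCategory.singleFunctor X.Modules 0).map m)) := by
    rw [hm, Functor.map_comp]
    exact epi_comp' inferInstance h1
  haveI : Epi m := by
    have := (NatIso.naturality_1 (DerivedCategory.singleFunctorCompHomologyFunctorIso X.Modules 0) m)
    rw [← show _ = m from this]
    haveI : Epi ((DerivedCategory.singleFunctor X.Modules 0 ⋙ DerivedCategory.homologyFunctor X.Modules 0).map m) := ‹_›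
    infer_instance
  obtain ⟨E', π, p, hE', hπ, hp⟩ := exists_lift_after_epi hX m hE (𝟙 E)
  refine ⟨E', π, hE', hπ, ?_⟩
  rw [show π = p ≫ m by rw [hp, Category.comp_id], Functor.map_comp, hm, Category.assoc, Category.assoc,
    show g ≫ ξ = 0 from comp_distTriang_mor_zero₂₃ T hT, comp_zero, comp_zero]

/-- the higher extension groups are effaceable -/
theorem killed_succ (hX : PerfAux.HasResolutionProperty X) (k : ℕ) :
    ∀ {E M : X.Modules}, FlatMod.IsFinLocFree E → M.IsQuasicoherent →
      ∀ ξ : DCoh.inD X E ⟶ (DCoh.inD X M)⟦((k : ℤ) + 1)⟧, Killed ξ := by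
  classical
  induction k with
  | zero =>
    intro E M hE hM ξ
    have := hM
    let c : (shiftFunctor (DCoh.D X) (((0 : ℕ) : ℤ) + 1)) ≅ shiftFunctor (DCoh.D X) (1 : ℤ) :=
      eqToIso (by norm_num)
    exact Killed.of_comp (c.hom.app _) (killed_one hX hE _)
  | succ k ih =>
    intro E M hE hM ξ
    have := hM
    obtain ⟨n, U, hU, hcov⟩ := exists_finite_cover (X := X)
    haveI : ∀ i, IsAffineHom (U i).ι := fun i => ⟨fun V hV => by
      rw [← (U i).ι.isAffineOpen_iff_of_isOpenImmersion,
        Scheme.Hom.image_preimage_eq_opensRange_inf, Scheme.Opens.opensRange_ι]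
      exact ResPropAffineDiag.isAffineOpen_inf hX (hU i) hV⟩
    let P : Fin n → X.Modules := fun i =>
      (Scheme.Modules.pushforward (U i).ι).obj ((Scheme.Modules.restrictFunctor (U i).ι).obj M)
    haveI : ∀ i, ((Scheme.Modules.restrictFunctor (U i).ι).obj M).IsQuasicoherent :=
      fun i => Scheme.Modules.isQuasicoherent_restrictFunctor _ M
    haveI : ∀ i, (P i).IsQuasicoherent := fun i => Groth.QCohMod.isQCoh_pushforward _ (U i).ι
    haveI : HasFiniteBiproducts X.Modules := HasFiniteBiproducts.of_hasFiniteProducts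
    let η : M ⟶ ⨁ P := biproduct.lift fun i => (Scheme.Modules.restrictAdjunction (U i).ι).unit.app M
    haveI : Mono η := by
      refine Preadditive.mono_of_cancel_zero _ fun g hg => ?_
      refine Groth.DerivedCoh.ResProp.eq_zero_of_cover _ U hcov fun i => ?_
      have h1 := congrArg (fun t => (Scheme.Modules.restrictFunctor (U i).ι).map (t ≫ biproduct.π P i) ≫
        (Scheme.Modules.restrictAdjunction (U i).ι).counit.app _) hg
      simpa [η] using h1
    haveI : (⨁ P).IsQuasicoherent := isQCoh_biproduct P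
    let S := ShortComplex.mk η (cokernel.π η) (cokernel.condition η)
    have hS : S.ShortExact :=
      { exact := ShortComplex.exact_of_g_is_cokernel _ (cokernelIsCokernel η) }
    have hzero : ∀ φ : DCoh.inD X E ⟶ (DCoh.inD X (⨁ P))⟦((k : ℤ) + 1 + 1)⟧, φ = 0 := fun φ => by
      let G := DerivedCategory.singleFunctor X.Modules 0 ⋙ shiftFunctor (DCoh.D X) ((k : ℤ) + 1 + 1)
      haveI : G.Additive := inferInstance
      have h : φ = φ ≫ G.map (∑ i, biproduct.π P i ≫ biproduct.ι P i) := by
        rw [biproduct.total, G.map_id]; exact (Category.comp_id φ).symm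
      rw [h, Functor.map_sum, Preadditive.comp_sum]
      refine Finset.sum_eq_zero fun i _ => ?_
      rw [G.map_comp, ← Category.assoc, hom_push_eq_zero (U i) (hU i) hE _ (by omega) (φ ≫ G.map (biproduct.π P i)),
        zero_comp]
    let T := (Triangle.shiftFunctor (DCoh.D X) ((k : ℤ) + 1)).obj hS.singleTriangle.rotate.rotate
    have hT : T ∈ distTriang _ := Triangle.shift_distinguished _
      (rot_of_distTriang _ (rot_of_distTriang _ hS.singleTriangle_distinguished)) _
    let a : (DCoh.inD X M)⟦(((k + 1 : ℕ) : ℤ) + 1)⟧ ≅ T.obj₂ :=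
      (shiftFunctorAdd' (DCoh.D X) 1 ((k : ℤ) + 1) _ (by push_cast; ring)).app _
    let b : T.obj₃ ≅ (DCoh.inD X (⨁ P))⟦((k : ℤ) + 1 + 1)⟧ :=
      ((shiftFunctorAdd' (DCoh.D X) 1 ((k : ℤ) + 1) _ (by ring)).app _).symm
    obtain ⟨ψ, hψ⟩ := Triangle.coyoneda_exact₂ T hT (ξ ≫ a.hom) (by
      rw [← cancel_mono b.hom, zero_comp]
      exact hzero _)
    refine Killed.of_comp a.hom ?_
    rw [hψ]
    exact (ih hE inferInstance ψ).comp _

/-- maps to objects of `D_QCoh` in negative degrees are effaceable -/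
theorem killed_below (hX : PerfAux.HasResolutionProperty X) {E : X.Modules} (hE : FlatMod.IsFinLocFree E)
    (d : ℕ) : ∀ (N : DCoh.D X) (a : ℤ), DCoh.IsQCohD N → N.IsGE a → N.IsLE (-1) → -a ≤ d →
      ∀ φ : DCoh.inD X E ⟶ N, Killed φ := by
  induction d generalizing E with
  | zero =>
    intro N a _ hge hle had φ
    have h0 : IsZero N := DerivedCategory.TStructure.t.isZero N (-1) a (by omega)
    exact ⟨E, 𝟙 E, hE, inferInstance, h0.eq_of_tgt _ _⟩
  | succ d ih =>
    intro N a hN hge hle had φ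
    by_cases had' : -a ≤ d
    · exact ih hE N a hN hge hle had' φ
    haveI := hge
    haveI := hle
    obtain ⟨A, B, hA, hB, i, p, δ, hT⟩ := DerivedCategory.TStructure.t.exists_triangle N a (a + 1) rfl
    let T := Triangle.mk i p δ
    haveI hA' : A.IsLE a := ⟨hA⟩
    haveI hB' : B.IsGE (a + 1) := ⟨hB⟩
    haveI : A.IsGE a := (DerivedCategory.isGE_iff A a).2 fun q hq =>
      (DerivedCategory.HomologySequence.exact₁ T hT (q - 1) q).isZero_X₂
        ((DerivedCategory.isZero_of_isGE B (a + 1) (q - 1) (by omega)).eq_of_src _ _)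
        ((DerivedCategory.isZero_of_isGE N a q hq).eq_of_tgt _ _)
    haveI : B.IsLE (-1) := (DerivedCategory.isLE_iff B (-1)).2 fun q hq =>
      (DerivedCategory.HomologySequence.exact₃ T hT q (q + 1)).isZero_X₂
        ((DerivedCategory.isZero_of_isLE N (-1) q hq).eq_of_src _ _)
        ((DerivedCategory.isZero_of_isLE A a (q + 1) (by omega)).eq_of_tgt _ _)
    haveI hH : IsIso ((DerivedCategory.homologyFunctor X.Modules a).map i) := by
      haveI : Mono ((DerivedCategory.homologyFunctor X.Modules a).map T.mor₁) :=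
        (DerivedCategory.HomologySequence.mono_homologyMap_mor₁_iff T hT (a - 1) a).2
          ((DerivedCategory.isZero_of_isGE B (a + 1) (a - 1) (by omega)).eq_of_src _ _)
      haveI : Epi ((DerivedCategory.homologyFunctor X.Modules a).map T.mor₁) :=
        (DerivedCategory.HomologySequence.epi_homologyMap_mor₁_iff T hT a).2
          ((DerivedCategory.isZero_of_isGE B (a + 1) a (by omega)).eq_of_tgt _ _)
      exact isIso_of_mono_of_epi ((DerivedCategory.homologyFunctor X.Modules a).map T.mor₁)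
    haveI hAq : (DCoh.HD A a).IsQuasicoherent :=
      (SheafOfModules.isQuasicoherent (R := X.ringCatSheaf)).prop_of_iso
        (asIso ((DerivedCategory.homologyFunctor X.Modules a).map i)).symm (hN a)
    have hAD : DCoh.IsQCohD A := fun q => by
      rcases lt_trichotomy q a with hq | rfl | hq
      · exact Groth.Misc4.QCohDPerf.isQCoh_isZero (DerivedCategory.isZero_of_isGE A a q hq)
      · exact hAq
      · exact Groth.Misc4.QCohDPerf.isQCoh_isZero (DerivedCategory.isZero_of_isLE A a q hq)
    have hBD : DCoh.IsQCohD B := Groth.Misc4.QCohDPerf.isQCohD_obj₂ T.rotate (rot_of_distTriang _ hT) hN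
      (Groth.Misc4.QCohDPerf.isQCohD_shift hAD 1)
    obtain ⟨E₁, π₁, hE₁, hπ₁, h₁⟩ := ih hE B (a + 1) hBD hB' ‹_› (by omega) (φ ≫ p)
    rw [← Category.assoc] at h₁
    obtain ⟨ψ, hψ⟩ := Triangle.coyoneda_exact₂ T hT ((DerivedCategory.singleFunctor _ 0).map π₁ ≫ φ) h₁
    obtain ⟨M, ⟨e⟩⟩ := DerivedCategory.exists_iso_singleFunctor_obj_of_isGE_of_isLE A a
    haveI hMq : M.IsQuasicoherent := (SheafOfModules.isQuasicoherent (R := X.ringCatSheaf)).prop_of_iso
      ((DerivedCategory.homologyFunctor _ a).mapIso e ≪≫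
        (DerivedCategory.singleFunctorCompHomologyFunctorIso X.Modules a).app M) hAq
    obtain ⟨k, hk⟩ : ∃ k : ℕ, -a = (k : ℤ) + 1 := ⟨(-a - 1).toNat, by omega⟩
    let e' : A ≅ (DCoh.inD X M)⟦(k : ℤ) + 1⟧ :=
      e ≪≫ (((DerivedCategory.singleFunctors X.Modules).shiftIso ((k : ℤ) + 1) a 0 (by omega)).app M).symm
    obtain ⟨E₂, π₂, hE₂, hπ₂, h₂⟩ := Killed.of_comp e'.hom
      (killed_succ hX k (M := M) hE₁ hMq (show DCoh.inD X E₁ ⟶ _ from ψ ≫ e'.hom))
    refine ⟨E₂, π₂ ≫ π₁, hE₂, epi_comp _ _, ?_⟩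
    rw [Functor.map_comp, Category.assoc]
    refine (congrArg (_ ≫ ·) hψ).trans ?_
    refine (Category.assoc _ _ _).symm.trans ?_
    exact (congrArg (· ≫ T.mor₁) h₂).trans zero_comp

end Groth.DerivedCoh.ResProp
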