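import Groth.Agent.RelVA.FTSub
import Groth.Agent.PnCoh.TwistQuot
import Groth.Agent.QCohMod.Category
import Groth.Agent.QCohMod.FiniteType
import Groth.Agent.PropsBasic.LocFree
import Groth.Prelude.Def_PerfAux
import Groth.Prelude.Def_FlatMod2

/-!
Lifting maps from finite locally free modules through epimorphisms, up to an epimorphism, on a
quasi-compact quasi-separated scheme with the resolution property.
-/

universe u

open CategoryTheory CategoryTheory.Limits AlgebraicGeometry

namespace Groth.DerivedCoh.ResProp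

variable {X : Scheme.{u}}

/-- finitely many affine opens cover a quasi-compact scheme -/
theorem exists_finite_cover [CompactSpace X] :
    ∃ (n : ℕ) (U : Fin n → X.Opens), (∀ i, IsAffineOpen (U i)) ∧ ∀ x, ∃ i, x ∈ U i := by
  classical
  choose V hV hx _ using fun x : X => exists_isAffineOpen_mem_and_subset (show x ∈ (⊤ : X.Opens) from trivial)
  obtain ⟨t, ht⟩ := isCompact_univ.elim_finite_subcover (fun x => (V x : Set X)) (fun x => (V x).2)
    fun x _ => Set.mem_iUnion.2 ⟨x, hx x⟩
  refine ⟨t.card, fun i => V (t.equivFin.symm i), fun i => hV _, fun x => ?_⟩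
  obtain ⟨y, hy, hxy⟩ : ∃ y ∈ t, x ∈ V y := by simpa using ht (Set.mem_univ x)
  exact ⟨t.equivFin ⟨y, hy⟩, by simpa using hxy⟩

variable [CompactSpace X] [QuasiSeparatedSpace X]

/-- a finite locally free module mapping to a quasi-coherent module, onto a finite type quotient -/
theorem exists_bundle_lift (hX : PerfAux.HasResolutionProperty X) {M N : X.Modules} [M.IsQuasicoherent]
    [N.IsQuasicoherent] (m : M ⟶ N) [Epi m] (hN : CohB1.IsFT N) :
    ∃ (E : X.Modules) (p : E ⟶ M), FlatMod.IsFinLocFree E ∧ Epi (p ≫ m) := by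
  classical
  obtain ⟨n, U, hU, hcov⟩ := exists_finite_cover (X := X)
  choose A hA using fun i => (Groth.QCohMod.finite_sections N hN (hU i)).fg_top
  choose pre hpre using fun i => Groth.QCohMod.app_surjective_of_epi m (hU i)
  let T : Finset (Σ' W : X.affineOpens, Γ(M, W.1)) :=
    Finset.univ.biUnion fun i => (A i).image fun a => ⟨⟨U i, hU i⟩, pre i a⟩
  obtain ⟨G, ι, hι, hGq, hGft, hG⟩ := Groth.RelVA.exists_ft_sub_mem M T
  haveI := hGq
  haveI : Epi (ι ≫ m) := Groth.PnCoh.epi_of_affine_cover _ U hU hcov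
    (fun i => (A i : Set _)) hA fun i s hs => by
      obtain ⟨b, hb⟩ := hG ⟨⟨U i, hU i⟩, pre i s⟩
        (Finset.mem_biUnion.2 ⟨i, Finset.mem_univ i, Finset.mem_image_of_mem _ hs⟩)
      refine ⟨b, Eq.trans ?_ (hpre i s)⟩
      show m.app _ (ι.app (U i) b) = m.app (U i) (pre i s)
      exact congrArg _ hb
  obtain ⟨E, π, hE, hπ⟩ := hX G hGq hGft
  refine ⟨E, π ≫ ι, hE, ?_⟩
  rw [Category.assoc]
  exact epi_comp _ _

/-- maps from finite locally free modules lift through epimorphisms after an epimorphism -/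
theorem exists_lift_after_epi (hX : PerfAux.HasResolutionProperty X) {M N E : X.Modules}
    [M.IsQuasicoherent] [N.IsQuasicoherent] (m : M ⟶ N) [Epi m] (hE : FlatMod.IsFinLocFree E)
    (f : E ⟶ N) :
    ∃ (E' : X.Modules) (π : E' ⟶ E) (p : E' ⟶ M), FlatMod.IsFinLocFree E' ∧ Epi π ∧ p ≫ m = π ≫ f := by
  haveI : E.IsQuasicoherent := Groth.PropsBasic.LocFree.isQuasicoherent_of_isFinLocFree _ hE
  obtain ⟨E', q, hE', hq⟩ := exists_bundle_lift hX (pullback.snd m f)
    (Groth.PropsBasic.LocFree.isFT_of_isFP _ (Groth.PropsBasic.LocFree.isFP_of_isFinLocFree _ hE))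
  exact ⟨E', q ≫ pullback.snd m f, q ≫ pullback.fst m f, hE', hq, by
    rw [Category.assoc, pullback.condition, Category.assoc]⟩

end Groth.DerivedCoh.ResProp
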