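import Groth.Agent.DerivedCoh.ResProp.Strict
import Mathlib.Algebra.Homology.HomotopyCofiber

/-!
`D_perf` is the localization of strictly perfect complexes at quasi-isomorphisms, with the resolution
property.
-/

universe u

open CategoryTheory CategoryTheory.Limits AlgebraicGeometry HomologicalComplex

namespace Groth.DerivedCoh.ResProp

attribute [local instance] HasDerivedCategory.standard
set_option linter.style.haveILetI false

local notation "up" => ComplexShape.up ℤ

variable {X : Scheme.{u}}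

/-- strictly perfect complexes -/
abbrev spP (X : Scheme.{u}) : ObjectProperty (CochainComplex X.Modules ℤ) := fun E => DCoh.IsStrictlyPerfect E

/-- quasi-isomorphisms of strictly perfect complexes -/
abbrev spW (X : Scheme.{u}) : MorphismProperty (spP X).FullSubcategory :=
  (HomologicalComplex.quasiIso X.Modules up).inverseImage (spP X).ι

theorem isStrictlyPerfect_biprod {E F : CochainComplex X.Modules ℤ} (hE : DCoh.IsStrictlyPerfect E)
    (hF : DCoh.IsStrictlyPerfect F) : DCoh.IsStrictlyPerfect (E ⊞ F) := by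
  obtain ⟨⟨a, b, h⟩, hfl⟩ := hE
  obtain ⟨⟨a', b', h'⟩, hfl'⟩ := hF
  refine ⟨⟨min a a', max b b', fun i hi => ?_⟩, fun i => ?_⟩
  · exact IsZero.of_iso ((biprod_isZero_iff _ _).2 ⟨h i (by omega), h' i (by omega)⟩) (biprodXIso E F i)
  · exact Groth.KTheory.LocFree.isFinLocFree_of_iso (biprodXIso E F i).symm
      (Groth.KTheory.LocFree.isFinLocFree_biprod (hfl i) (hfl' i))

/-- homotopic maps of strictly perfect complexes agree once quasi-isomorphisms are inverted -/
theorem map_eq_of_homotopy {E F : (spP X).FullSubcategory} (f g : E ⟶ F) (h : Homotopy f.hom g.hom) :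
    (spW X).Q.map f = (spW X).Q.map g := by
  have hc : ∀ j : ℤ, ∃ i, (up).Rel i j := fun j => ⟨j - 1, by simp⟩
  obtain ⟨⟨a, b, hE0⟩, hEfl⟩ := id E.property
  have hcyl : DCoh.IsStrictlyPerfect E.obj.cylinder := by
    obtain ⟨⟨a', b', h2⟩, hfl2⟩ := isStrictlyPerfect_biprod E.property E.property
    refine ⟨⟨min (a - 1) a', max b b', fun i hi => ?_⟩, fun i => ?_⟩
    · exact isZero_cone_X (biprod.lift (𝟙 E.obj) (-𝟙 E.obj)) i (hE0 _ (by omega)) (h2 _ (by omega))
    · exact isFinLocFree_cone_X (biprod.lift (𝟙 E.obj) (-𝟙 E.obj)) hEfl hfl2 i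
  let C : (spP X).FullSubcategory := ⟨E.obj.cylinder, hcyl⟩
  let i₀ : E ⟶ C := ObjectProperty.homMk (cylinder.ι₀ E.obj)
  let i₁ : E ⟶ C := ObjectProperty.homMk (cylinder.ι₁ E.obj)
  let p : C ⟶ E := ObjectProperty.homMk (cylinder.π E.obj)
  let d : C ⟶ F := ObjectProperty.homMk (cylinder.desc f.hom g.hom h)
  have hp : spW X p := (cylinder.homotopyEquiv E.obj hc).quasiIso_hom
  have hf : i₀ ≫ d = f := ObjectProperty.hom_ext _ (cylinder.ι₀_desc f.hom g.hom h)
  have hg : i₁ ≫ d = g := ObjectProperty.hom_ext _ (cylinder.ι₁_desc f.hom g.hom h)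
  have h01 : (spW X).Q.map i₀ = (spW X).Q.map i₁ := by
    haveI := (spW X).Q_inverts p hp
    rw [← cancel_mono ((spW X).Q.map p), ← Functor.map_comp, ← Functor.map_comp]
    exact congrArg _ (ObjectProperty.hom_ext _ ((cylinder.ι₀_π E.obj).trans (cylinder.ι₁_π E.obj).symm))
  rw [← hf, ← hg, Functor.map_comp, Functor.map_comp, h01]

variable [CompactSpace X] [QuasiSeparatedSpace X] (hX : PerfAux.HasResolutionProperty X)

include hX in
/-- maps equal in the derived category agree after a quasi-isomorphism, in the localization -/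
theorem exists_map_eq {E F : (spP X).FullSubcategory} (f g : E ⟶ F)
    (h : DerivedCategory.Q.map f.hom = DerivedCategory.Q.map g.hom) :
    (spW X).Q.map f = (spW X).Q.map g := by
  obtain ⟨G, γ, hG, hγ, ⟨hh⟩⟩ := exists_homotopy hX E.property F.property f.hom g.hom h
  let G' : (spP X).FullSubcategory := ⟨G, hG⟩
  let γ' : G' ⟶ E := ObjectProperty.homMk γ
  haveI := (spW X).Q_inverts γ' hγ
  rw [← cancel_epi ((spW X).Q.map γ'), ← Functor.map_comp, ← Functor.map_comp]
  exact map_eq_of_homotopy _ _ hh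

include hX in
/-- roofs in the subcategory -/
theorem exists_roof' {E F : (spP X).FullSubcategory}
    (α : DerivedCategory.Q.obj E.obj ⟶ DerivedCategory.Q.obj F.obj) :
    ∃ (G : (spP X).FullSubcategory) (g : G ⟶ E) (h : G ⟶ F), spW X g ∧
      DerivedCategory.Q.map g.hom ≫ α = DerivedCategory.Q.map h.hom := by
  obtain ⟨G, g, h, hG, hg, he⟩ := exists_roof hX E.property F.property α
  exact ⟨⟨G, hG⟩, ObjectProperty.homMk g, ObjectProperty.homMk h, hg, he⟩

/-- morphisms of the localization which are roofs -/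
def isRoof : MorphismProperty (spW X).Localization := fun A B f =>
  ∃ (G : (spP X).FullSubcategory) (g : G ⟶ (Localization.Construction.objEquiv (spW X)).symm A)
    (h : G ⟶ (Localization.Construction.objEquiv (spW X)).symm B),
    spW X g ∧ (spW X).Q.map g ≫ f = (spW X).Q.map h

include hX in
theorem isRoof_top : isRoof (X := X) = ⊤ := by
  haveI : (isRoof (X := X)).IsStableUnderComposition := ⟨fun {A B C} f₁ f₂ h₁ h₂ => by
    obtain ⟨G, g, h, hg, e₁⟩ := h₁
    obtain ⟨G', g', h', hg', e₂⟩ := h₂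
    haveI : QuasiIso g'.hom := hg'
    obtain ⟨K, k, l, hk, ekl⟩ := exists_roof' hX
      (DerivedCategory.Q.map h.hom ≫ inv (DerivedCategory.Q.map g'.hom))
    have e : (spW X).Q.map (k ≫ h) = (spW X).Q.map (l ≫ g') := exists_map_eq hX _ _ (by
      simp only [ObjectProperty.FullSubcategory.comp_hom, Functor.map_comp, ← ekl]
      simp)
    refine ⟨K, k ≫ g, l ≫ h', (spW X).comp_mem _ _ hk hg, ?_⟩
    rw [Functor.map_comp] at e ⊢
    refine (Category.assoc _ _ _).trans ((congrArg ((spW X).Q.map k ≫ ·)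
      ((Category.assoc _ _ _).symm.trans (congrArg (· ≫ f₂) e₁))).trans ?_)
    refine (Category.assoc _ _ _).symm.trans ((congrArg (· ≫ f₂) e).trans ?_)
    refine (congrArg (· ≫ f₂) ((spW X).Q.map_comp _ _)).trans ?_
    refine (Category.assoc _ _ _).trans ((congrArg ((spW X).Q.map l ≫ ·) e₂).trans ?_)
    exact ((spW X).Q.map_comp _ _).symm⟩
  refine Localization.Construction.morphismProperty_eq_top _ (fun A B f => ?_) (fun A B w hw => ?_)
  · exact ⟨A, 𝟙 A, f, (spW X).id_mem A, (congrArg (· ≫ (spW X).Q.map f) ((spW X).Q.map_id A)).trans (Category.id_comp _)⟩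
  · refine ⟨A, w, 𝟙 A, hw, ?_⟩
    exact (Localization.Construction.wIso w hw).hom_inv_id.trans ((spW X).Q.map_id A).symm

include hX in
/-- strictly perfect complexes localize to perfect objects -/
theorem isLocalization_perf
    (h : ∀ E : (spP X).FullSubcategory, DCoh.IsPerfect (((spP X).ι ⋙ DerivedCategory.Q).obj E)) :
    (ObjectProperty.lift (fun K : DCoh.D X => DCoh.IsPerfect K) ((spP X).ι ⋙ DerivedCategory.Q) h).IsLocalization
      (spW X) := by
  let L := ObjectProperty.lift (fun K : DCoh.D X => DCoh.IsPerfect K) ((spP X).ι ⋙ DerivedCategory.Q) h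
  have hL : (spW X).IsInvertedBy L := fun A B f hf => by
    haveI : QuasiIso f.hom := hf
    haveI : IsIso ((ObjectProperty.ι (fun K : DCoh.D X => DCoh.IsPerfect K)).map (L.map f)) :=
      (inferInstance : IsIso (DerivedCategory.Q.map f.hom))
    exact isIso_of_fully_faithful (ObjectProperty.ι (fun K : DCoh.D X => DCoh.IsPerfect K)) _
  refine ⟨hL, ?_⟩
  let Φ := Localization.Construction.lift L hL
  have hΦ : ∀ {A B : (spP X).FullSubcategory} (f : A ⟶ B), (Φ.map ((spW X).Q.map f)).hom = DerivedCategory.Q.map f.hom := by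
    intro A B f
    refine (congrArg (fun t => t.hom) (show Φ.map ((spW X).Q.map f) = L.map f from ?_))
    exact (Functor.congr_hom (Localization.Construction.fac L hL) f).trans
      ((Category.id_comp _).trans (Category.comp_id _))
  haveI : Φ.EssSurj := ⟨fun K => by
    obtain ⟨E, hE, ⟨e⟩⟩ := exists_strict hX K.property
    exact ⟨(spW X).Q.obj ⟨E, hE⟩, ⟨ObjectProperty.isoMk _ e⟩⟩⟩
  haveI : Φ.Full := ⟨fun {A B} α => by
    let A₀ := (Localization.Construction.objEquiv (spW X)).symm A
    let B₀ := (Localization.Construction.objEquiv (spW X)).symm B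
    obtain ⟨G, g, k, hg, e⟩ := exists_roof' hX (E := A₀) (F := B₀) α.hom
    have hi := (spW X).Q_inverts g hg
    refine ⟨@inv _ _ _ _ ((spW X).Q.map g) hi ≫ (spW X).Q.map k, ?_⟩
    refine (@cancel_epi _ _ _ _ _ (Φ.map ((spW X).Q.map g)) (@IsIso.epi_of_iso _ _ _ _ _ (@Functor.map_isIso _ _ _ _ _ _ Φ _ hi)) _ _).1 ?_
    refine (Φ.map_comp _ _).symm.trans ((congrArg Φ.map (@IsIso.hom_inv_id_assoc _ _ _ _ ((spW X).Q.map g) hi _ _)).trans ?_)
    exact ObjectProperty.hom_ext _ ((hΦ k).trans (e.symm.trans (congrArg (· ≫ α.hom) (hΦ g)).symm))⟩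
  haveI : Φ.Faithful := ⟨fun {A B} f f' hff => by
    have hr : ∀ a : A ⟶ B, isRoof a := fun a => (isRoof_top hX).ge a trivial
    obtain ⟨G, g, k, hg, e⟩ := hr f
    obtain ⟨G', g', k', hg', e'⟩ := hr f'
    haveI : QuasiIso g'.hom := hg'
    obtain ⟨K, p, q, hp, epq⟩ := exists_roof' hX
      (DerivedCategory.Q.map g.hom ≫ inv (DerivedCategory.Q.map g'.hom))
    have e1 : (spW X).Q.map (p ≫ g) = (spW X).Q.map (q ≫ g') := exists_map_eq hX _ _ (by
      simp only [ObjectProperty.FullSubcategory.comp_hom, Functor.map_comp, ← epq]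
      simp)
    have key : ∀ (a : A ⟶ B) {G : (spP X).FullSubcategory} (g : G ⟶ _) (k : G ⟶ _) ,
        (spW X).Q.map g ≫ a = (spW X).Q.map k →
          DerivedCategory.Q.map g.hom ≫ (Φ.map a).hom = DerivedCategory.Q.map k.hom := by
      intro a G g k hk
      refine Eq.trans ?_ ((congrArg (fun t => (Φ.map t).hom) hk).trans (hΦ k))
      refine (congrArg (· ≫ (Φ.map a).hom) (hΦ g).symm).trans ?_
      exact (congrArg (fun (t : Φ.obj _ ⟶ Φ.obj B) => t.hom) (Φ.map_comp ((spW X).Q.map g) a)).symm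
    have e2 : (spW X).Q.map (p ≫ k) = (spW X).Q.map (q ≫ k') := exists_map_eq hX _ _ (by
      simp only [ObjectProperty.FullSubcategory.comp_hom, Functor.map_comp]
      refine (congrArg (_ ≫ ·) (key f g k e).symm).trans (Eq.trans ?_ (congrArg (_ ≫ ·) (key f' g' k' e')))
      refine Eq.trans ?_ (congrArg (fun t => DerivedCategory.Q.map q.hom ≫ DerivedCategory.Q.map g'.hom ≫ t.hom) hff)
      refine (Category.assoc _ _ _).symm.trans (Eq.trans (congrArg (· ≫ (Φ.map f).hom) ?_) (Category.assoc _ _ _))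
      rw [← epq]
      simp only [Category.assoc]
      refine congrArg (_ ≫ ·) ((Category.comp_id _).symm.trans ?_)
      exact congrArg (_ ≫ ·) (@IsIso.inv_hom_id _ _ _ _ (DerivedCategory.Q.map g'.hom) ((DerivedCategory.isIso_Q_map_iff_quasiIso _ _).2 hg')).symm)
    haveI := (spW X).Q_inverts (p ≫ g) ((spW X).comp_mem _ _ hp hg)
    refine (cancel_epi ((spW X).Q.map (p ≫ g))).1 ?_
    conv_rhs => rw [e1]
    rw [Functor.map_comp, Functor.map_comp] at e2 ⊢
    refine (Category.assoc _ _ _).trans ((congrArg (_ ≫ ·) e).trans (e2.trans ?_))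
    exact ((Category.assoc _ _ _).trans (congrArg (_ ≫ ·) e')).symm⟩
  exact Functor.IsEquivalence.mk

end Groth.DerivedCoh.ResProp
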