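import Groth.Agent.DerivedCoh.ResProp.ConeStep
import Groth.Agent.QCohMod.FPColimit
import Groth.Agent.Misc4.PlusLocFree
import Groth.Agent.DerivedCoh.Fibre.Concentrated
import Groth.Agent.KTheory.LocFree
import Groth.Agent.PropsBasic.LocFree
import Groth.Prelude.Def_PerfAux

/-!
# Perfect complexes of quasi-coherent modules on schemes with the resolution property
-/

universe u

open CategoryTheory CategoryTheory.Limits Pretriangulated AlgebraicGeometry CochainComplex
open scoped ZeroObject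

attribute [local instance] HasDerivedCategory.standard

set_option maxHeartbeats 1000000

namespace Groth.DerivedCoh.ResPropQIso

open Groth.DerivedCoh.ResProp

variable {X : Scheme.{u}} [CompactSpace X] [QuasiSeparatedSpace X]

/-- covering a finite type quotient of a quasi-coherent module by a vector bundle -/
theorem exists_locFree_hit (hX : PerfAux.HasResolutionProperty X) {Z H : X.Modules} [Z.IsQuasicoherent]
    [H.IsQuasicoherent] (π : Z ⟶ H) [Epi π] (hH : CohB1.IsFT H) :
    ∃ (E₀ : X.Modules) (e : E₀ ⟶ Z), FlatMod.IsFinLocFree E₀ ∧ Epi (e ≫ π) := by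
  classical
  obtain ⟨n, V, hV, hcov, -, -⟩ := Groth.QCohMod.exists_finite_cover (X := X)
  choose S hS using fun i => (Groth.QCohMod.finite_sections H hH (hV i)).fg_top
  choose z hz using fun i (m : Γ(H, V i)) => Groth.QCohMod.app_surjective_of_epi π (hV i) m
  choose G hGq φ a hG ha using fun (k : Σ i : ULift.{u} (Fin n), S i.down) =>
    Groth.QCohMod.exists_fp_hit Z (hV k.1.down) (z k.1.down k.2.1)
  obtain ⟨E₀, p, hE₀, hp⟩ := hX (∐ G) (inferInstanceAs (∐ G).IsQuasicoherent)
    (Groth.PropsBasic.LocFree.isFT_of_isFP _ (Groth.QCohMod.isFP_sigma G hG))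
  refine ⟨E₀, p ≫ Sigma.desc φ, hE₀, ?_⟩
  haveI : Epi (Sigma.desc φ ≫ π) :=
    Preadditive.epi_of_cokernel_zero (Groth.QCohMod.hom_eq_zero_of_cover _ V hV hcov fun i b => by
      have hb : b ∈ Submodule.span Γ(X, V i) (S i : Set _) := (hS i).ge trivial
      change b ∈ LinearMap.ker (Groth.QCohMod.appₗ (cokernel.π (Sigma.desc φ ≫ π)) (V i))
      refine Submodule.span_le.2 (fun m hm => ?_) hb
      change (cokernel.π (Sigma.desc φ ≫ π)).app (V i) m = 0
      let k : Σ i : ULift.{u} (Fin n), S i.down := ⟨⟨i⟩, m, hm⟩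
      rw [← show π.app (V i) ((φ k).app (V i) (a k)) = m from (congrArg _ (ha k)).trans (hz i m)]
      have : φ k ≫ π ≫ cokernel.π (Sigma.desc φ ≫ π) = 0 := by
        rw [← Sigma.ι_desc φ k, Category.assoc, ← Category.assoc (Sigma.desc φ), cokernel.condition,
          comp_zero]
      exact congr(($this).app (V i) (a k)))
  rw [Category.assoc]
  infer_instance

omit [CompactSpace X] [QuasiSeparatedSpace X] in
lemma isQCoh_cone_X {E F : CochainComplex X.Modules ℤ} (φ : E ⟶ F)
    (hE : ∀ i, (E.X i).IsQuasicoherent) (hF : ∀ i, (F.X i).IsQuasicoherent) (i : ℤ) :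
    ((mappingCone φ).X i).IsQuasicoherent :=
  (Groth.QCohMod.isQCoh_iff_of_iso (HomologicalComplex.homotopyCofiber.XIsoBiprod φ i (i + 1) rfl)).2
    inferInstance

omit [CompactSpace X] [QuasiSeparatedSpace X] in
lemma isPerfect_cone {E F : CochainComplex X.Modules ℤ} (φ : E ⟶ F) (hE : DCoh.IsStrictlyPerfect E)
    (hF : DCoh.IsPerfect (DCoh.toD X F)) : DCoh.IsPerfect (DCoh.toD X (mappingCone φ)) :=
  Groth.KTheory.Perf.isPerfect_obj₃ _ (DerivedCategory.mappingCone_triangle_distinguished φ)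
    (Groth.DerivedCoh.Fibre.isPerfect_toD hE) hF

omit [CompactSpace X] [QuasiSeparatedSpace X] in
lemma isZero_hd_of_exactAt (C : CochainComplex X.Modules ℤ) (i : ℤ) (h : C.ExactAt i) :
    IsZero (DCoh.HD (DCoh.toD X C) i) :=
  (Groth.DerivedCoh.KFlat.isZero_hd_toD_iff C i).2 h

variable (hX : PerfAux.HasResolutionProperty X) (F : CochainComplex X.Modules ℤ)
  (hFq : ∀ i, (F.X i).IsQuasicoherent) (hF : DCoh.IsPerfect (DCoh.toD X F))

/-- `φ` is a quasi-isomorphism in degrees above `n` and surjective in degree `n` -/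
def IsApprox (n : ℤ) (E : CochainComplex X.Modules ℤ) (φ : E ⟶ F) : Prop :=
  DCoh.IsStrictlyPerfect E ∧ (∀ i, i < n → IsZero (E.X i)) ∧ ∀ i, n ≤ i → (mappingCone φ).ExactAt i

omit [CompactSpace X] [QuasiSeparatedSpace X] in
lemma strictlyPerfect_attach {E E' : CochainComplex X.Modules ℤ} (hE : DCoh.IsStrictlyPerfect E) {n : ℤ}
    {E₀ : X.Modules} (hE₀ : FlatMod.IsFinLocFree E₀) (h0 : ∀ i, i < n → IsZero (E.X i))
    (h : ∀ i, i ≠ n - 1 → Nonempty (E'.X i ≅ E.X i)) (h' : Nonempty (E'.X (n - 1) ≅ E₀)) :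
    DCoh.IsStrictlyPerfect E' ∧ ∀ i, i < n - 1 → IsZero (E'.X i) := by
  have hz : ∀ i, i < n - 1 → IsZero (E'.X i) := fun i hi =>
    (h0 i (by omega)).of_iso (h i (by omega)).some
  obtain ⟨⟨a, b, hab⟩, hfl⟩ := hE
  refine ⟨⟨⟨n - 1, max b (n - 1), fun i hi => ?_⟩, fun i => ?_⟩, hz⟩
  · rcases hi with hi | hi
    · exact hz i hi
    · exact (hab i (Or.inr (lt_of_le_of_lt (le_max_left _ _) hi))).of_iso
        (h i (by have := le_max_right b (n - 1); omega)).some
  · by_cases hi : i = n - 1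
    · subst hi
      exact Groth.KTheory.LocFree.isFinLocFree_of_iso h'.some.symm hE₀
    · exact Groth.KTheory.LocFree.isFinLocFree_of_iso (h i hi).some.symm (hfl i)

include hX hFq hF in
/-- one more step of the approximation -/
theorem exists_approx_pred {n : ℤ} (h : ∃ E φ, IsApprox F n E φ) : ∃ E φ, IsApprox F (n - 1) E φ := by
  obtain ⟨E, φ, hE, h0, hex⟩ := h
  let C := mappingCone φ
  haveI hq : ∀ i, (C.X i).IsQuasicoherent :=
    isQCoh_cone_X φ (fun i => Groth.KTheory.LocFree.isQCoh (hE.2 i)) hFq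
  have hC : DCoh.IsPerfect (DCoh.toD X C) := isPerfect_cone φ hE hF
  let eH : DCoh.HD (DCoh.toD X C) (n - 1) ≅ C.homology (n - 1) :=
    Groth.DerivedCoh.KFlat.hdIso C (n - 1)
  have hH : CohB1.IsFT (C.homology (n - 1)) := Groth.QCohMod.isFT_of_iso eH
    (Groth.DerivedCoh.PCoh.isFT_top (Groth.DerivedCoh.PCoh.isPseudoCoherentD_of_isPerfect hC (n - 1))
      fun i hi => isZero_hd_of_exactAt C i (hex i (by omega)))
  haveI : (C.homology (n - 1)).IsQuasicoherent :=
    (Groth.QCohMod.isQCoh_iff_of_iso eH).1 (Groth.Misc4.Thomason.isQCohD_of_isPerfect hC (n - 1))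
  haveI : (C.cycles (n - 1)).IsQuasicoherent :=
    (Groth.QCohMod.isQCoh_iff_of_iso (IsLimit.conePointUniqueUpToIso (kernelIsKernel (C.d (n - 1) n))
      (C.cyclesIsKernel (n - 1) n (by simp)))).1 (Groth.QCohMod.isQCoh_kernel (C.d (n - 1) n))
  obtain ⟨E₀, e, hE₀, he⟩ := exists_locFree_hit hX (C.homologyπ (n - 1)) hH
  obtain ⟨E', φ', h1, h2, h3, -⟩ := exists_attach φ n h0 (e ≫ C.iCycles (n - 1))
    (by rw [Category.assoc, HomologicalComplex.iCycles_d, comp_zero]) hex (fun A₀ x hx => by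
      let z₂ := C.liftCycles x n (by simp) hx
      obtain ⟨A₁, π₁, hπ₁, y, hy⟩ :=
        surjective_up_to_refinements_of_epi (e ≫ C.homologyπ (n - 1)) (z₂ ≫ C.homologyπ (n - 1))
      obtain ⟨A₂, π₂, hπ₂, w, hw⟩ :=
        (C.comp_homologyπ_eq_iff_up_to_refinements (n - 2) (n - 1) (by simp; omega) (π₁ ≫ z₂) (y ≫ e)).1
          (by rw [Category.assoc, hy, Category.assoc])
      refine ⟨A₂, π₂ ≫ π₁, inferInstance, π₂ ≫ y, w, ?_⟩
      have := congrArg (· ≫ C.iCycles (n - 1)) hw
      simp only [Category.assoc, Preadditive.add_comp, z₂, HomologicalComplex.liftCycles_i,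
        HomologicalComplex.toCycles_i] at this
      simpa only [Category.assoc] using this)
  obtain ⟨hE', hz⟩ := strictlyPerfect_attach hE hE₀ h0 h1 h2
  exact ⟨E', φ', hE', hz, h3⟩

include hX hFq hF in
/-- approximations exist in all degrees -/
theorem exists_approx : ∃ b : ℤ, ∀ n, n ≤ b → ∃ E φ, IsApprox F n E φ := by
  obtain ⟨-, b, -, hb⟩ := Groth.KTheory.Perf.exists_bounds_of_isPerfect hF
  have key : ∀ k : ℕ, ∃ E φ, IsApprox F (b + 1 - k) E φ := by
    intro k
    induction k with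
    | zero =>
      have hz : ∀ i, IsZero ((0 : CochainComplex X.Modules ℤ).X i) := fun i =>
        (HomologicalComplex.eval X.Modules (ComplexShape.up ℤ) i).map_isZero (isZero_zero _)
      refine ⟨0, 0, ⟨⟨0, 0, fun i _ => hz i⟩,
        fun i => Groth.KTheory.LocFree.isFinLocFree_zero (hz i)⟩, fun i _ => hz i, fun i hi => ?_⟩
      rw [← Groth.DerivedCoh.KFlat.isZero_hd_toD_iff]
      have hT := DerivedCategory.mappingCone_triangle_distinguished (0 : (0 : CochainComplex X.Modules ℤ) ⟶ F)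
      refine (DerivedCategory.HomologySequence.exact₃ _ hT i (i + 1) rfl).isZero_of_both_zeros ?_ ?_
      · exact (((DerivedCategory.isLE_iff _ b).1 hb i (by omega))).eq_of_src _ _
      · exact ((DerivedCategory.homologyFunctor _ _).map_isZero
          (DerivedCategory.Q.map_isZero (isZero_zero _))).eq_of_tgt _ _
    | succ k ih =>
      convert exists_approx_pred hX F hFq hF ih using 5
      omega
  refine ⟨b + 1, fun n hn => ?_⟩
  convert key (b + 1 - n).toNat using 5
  omega

include hX hFq hF in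
/-- a strictly perfect complex maps quasi-isomorphically to a bounded below perfect complex of
quasi-coherent modules -/
theorem exists_quasiIso (hFb : ∃ a : ℤ, ∀ i, i < a → IsZero (F.X i)) :
    ∃ (E : CochainComplex X.Modules ℤ) (φ : E ⟶ F), DCoh.IsStrictlyPerfect E ∧ QuasiIso φ := by
  obtain ⟨a, ha⟩ := hFb
  obtain ⟨a₀, b₀, hamp⟩ := Groth.DerivedCoh.PCohDescent.exists_flatAmp_of_isPerfect hF
  obtain ⟨b, hb⟩ := exists_approx hX F hFq hF
  let n := min (min a a₀) b
  obtain ⟨E, φ, hE, h0, hex⟩ := hb n (min_le_right _ _)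
  let C := mappingCone φ
  have hC : DCoh.IsPerfect (DCoh.toD X C) := isPerfect_cone φ hE hF
  have hlow : ∀ i, i < n - 1 → IsZero (C.X i) := fun i hi => IsZero.of_iso
    ((biprod_isZero_iff _ _).2 ⟨h0 (i + 1) (by omega), ha i (by omega)⟩)
    (HomologicalComplex.homotopyCofiber.XIsoBiprod φ i (i + 1) rfl)
  have hz : ∀ i, i ≠ n - 1 → IsZero (DCoh.HD (DCoh.toD X C) i) := fun i hi => by
    rcases lt_or_gt_of_ne hi with hi | hi
    · exact isZero_hd_of_exactAt C i (HomologicalComplex.ExactAt.of_isZero (hlow i hi))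
    · exact isZero_hd_of_exactAt C i (hex i (by omega))
  obtain ⟨⟨e₀, e₁, he⟩, hfl⟩ := id hE
  let B := max (max b₀ e₁) n
  have hampC : DCoh.HasFlatAmplitudeIn (n - 1) B (DCoh.toD X C) := by
    refine Groth.DerivedCoh.KFlat.flatAmp_of_torAmp _ _ _ (by omega) ?_
    refine Groth.DerivedCoh.KFlat.torAmp₃ _ (DerivedCategory.mappingCone_triangle_distinguished φ) ?_
      (Groth.DerivedCoh.KFlat.torAmp_of_flatAmp (Groth.Misc4.PlusLocFree.flatAmp_mono hamp (by omega) (by omega)))
    exact Groth.DerivedCoh.KFlat.torAmp_of_flatAmp ⟨E, fun i hi => by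
      rcases hi with hi | hi
      · exact h0 i (by omega)
      · exact he i (Or.inr (by omega)), fun i => Groth.DerivedCoh.PCoh.isFlat_of_isFinLocFree (hfl i),
      ⟨Iso.refl _⟩⟩
  obtain ⟨F₁, hF₁, ⟨eF⟩⟩ := Groth.Misc4.PlusLocFree.exists_locFree hC (by omega) hampC hz
  have hH : FlatMod.IsFinLocFree (C.homology (n - 1)) := by
    let e' := ((DerivedCategory.singleFunctors X.Modules).shiftIso (-(n - 1)) (n - 1) 0 (neg_add_cancel _)).app F₁
    exact Groth.KTheory.LocFree.isFinLocFree_of_iso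
      ((Groth.DerivedCoh.KFlat.hdIso C (n - 1)).symm ≪≫
        (DerivedCategory.homologyFunctor _ (n - 1)).mapIso (eF ≪≫ e') ≪≫
        Groth.DerivedCoh.KFlat.hdIso ((HomologicalComplex.single X.Modules (ComplexShape.up ℤ) (n - 1)).obj F₁) (n - 1) ≪≫
        HomologicalComplex.singleObjHomologySelfIso (ComplexShape.up ℤ) (n - 1) F₁).symm hF₁
  haveI : IsIso (C.homologyπ (n - 1)) :=
    C.isIso_homologyπ (n - 2) (n - 1) (by simp; omega) ((hlow (n - 2) (by omega)).eq_of_src _ _)
  obtain ⟨E', φ', h1, h2, h3, h4⟩ := exists_attach φ n h0 (C.iCycles (n - 1))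
    (HomologicalComplex.iCycles_d _ _ _) hex (fun A₀ x hx =>
      ⟨A₀, 𝟙 _, inferInstance, C.liftCycles x n (by simp) hx, 0, by simp⟩)
  obtain ⟨hE', hz'⟩ := strictlyPerfect_attach hE
    (Groth.KTheory.LocFree.isFinLocFree_of_iso (asIso (C.homologyπ (n - 1))).symm hH) h0 h1 h2
  refine ⟨E', φ', hE', ?_⟩
  rw [← DerivedCategory.isIso_Q_map_iff_quasiIso]
  refine (Triangle.isZero₃_iff_isIso₁ _ (DerivedCategory.mappingCone_triangle_distinguished φ')).1 ?_
  refine Groth.DerivedCoh.PerfPush.isZero_of_HD fun i => isZero_hd_of_exactAt _ i ?_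
  rcases lt_trichotomy i (n - 2) with hi | rfl | hi
  · exact HomologicalComplex.ExactAt.of_isZero (IsZero.of_iso
      ((biprod_isZero_iff _ _).2 ⟨hz' (i + 1) (by omega), ha i (by omega)⟩)
      (HomologicalComplex.homotopyCofiber.XIsoBiprod φ' i (i + 1) rfl))
  · exact h4 (ha _ (by omega)) inferInstance
  · exact h3 i (by omega)

end Groth.DerivedCoh.ResPropQIso
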