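import Groth.Agent.DerivedCoh.ResProp.Local
import Groth.Agent.DerivedCoh.PCoh.TopCohomology
import Mathlib.Algebra.Homology.HomologySequence
import Mathlib.Algebra.Homology.Embedding.CochainComplex

/-!
Maps of strictly perfect complexes in the derived category are roofs of strictly perfect complexes, on
a quasi-compact quasi-separated scheme with the resolution property.
-/

universe u

open CategoryTheory CategoryTheory.Limits CategoryTheory.Pretriangulated AlgebraicGeometry HomologicalComplex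
open CochainComplex (mappingCone)
open CochainComplex.HomComplex (Cochain δ)

namespace Groth.DerivedCoh.ResProp

attribute [local instance] HasDerivedCategory.standard
set_option linter.style.haveILetI false

local notation "up" => ComplexShape.up ℤ

variable {X : Scheme.{u}}

/-- the components of the inclusion in a cone are isomorphisms where the source vanishes -/
lemma isIso_inr_f {P G : CochainComplex X.Modules ℤ} (u : P ⟶ G) (i : ℤ) (h : IsZero (P.X (i + 1))) :
    IsIso ((mappingCone.inr u).f i) :=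
  ⟨(mappingCone.snd u).v i i (add_zero i), by simp, by
    have := mappingCone.id_X u i (i + 1) rfl
    rw [h.eq_of_tgt ((mappingCone.fst u).1.v i (i + 1) rfl) 0, zero_comp, zero_add] at this
    exact this⟩

/-- terms of cones -/
lemma isZero_cone_X {P G : CochainComplex X.Modules ℤ} (u : P ⟶ G) (i : ℤ) (hP : IsZero (P.X (i + 1)))
    (hG : IsZero (G.X i)) : IsZero ((mappingCone u).X i) :=
  haveI := isIso_inr_f u i hP
  hG.of_iso (asIso ((mappingCone.inr u).f i)).symm

lemma isFinLocFree_cone_X {P G : CochainComplex X.Modules ℤ} (u : P ⟶ G)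
    (hP : ∀ i, FlatMod.IsFinLocFree (P.X i)) (hG : ∀ i, FlatMod.IsFinLocFree (G.X i)) (i : ℤ) :
    FlatMod.IsFinLocFree ((mappingCone u).X i) :=
  Groth.KTheory.LocFree.isFinLocFree_of_iso (HomologicalComplex.homotopyCofiber.XIsoBiprod u i (i + 1) rfl).symm
    (Groth.KTheory.LocFree.isFinLocFree_biprod (hP (i + 1)) (hG i))

/-- the map of cones over an inclusion, in degrees where it is bijective -/
lemma isIso_map_f {G G' E : CochainComplex X.Modules ℤ} (g : G ⟶ E) (g' : G' ⟶ E) (a : G ⟶ G')
    (comm : g ≫ 𝟙 E = a ≫ g') (i : ℤ) [IsIso (a.f (i + 1))] :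
    IsIso ((mappingCone.map g g' a (𝟙 E) comm).f i) := by
  refine ⟨(mappingCone.fst g').1.v i (i + 1) rfl ≫ inv (a.f (i + 1)) ≫ (mappingCone.inl g).v (i + 1) i (by omega) +
    (mappingCone.snd g').v i i (add_zero i) ≫ (mappingCone.inr g).f i, ?_, ?_⟩
  · rw [mappingCone.ext_from_iff g (i + 1) i rfl]
    simp [mappingCone.map]
  · rw [mappingCone.ext_from_iff g' (i + 1) i rfl]
    simp [mappingCone.map]

/-- the composite out of a cocone is null-homotopic -/
noncomputable def coconeHomotopy {K L : CochainComplex X.Modules ℤ} (φ : K ⟶ L) :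
    Homotopy (CochainComplex.mappingCocone.fst φ ≫ φ) 0 :=
  (CochainComplex.HomComplex.Cochain.equivHomotopy _ _).symm ⟨-CochainComplex.mappingCocone.snd φ, by
    let q : (mappingCone φ)⟦(-1 : ℤ)⟧ ⟶ K :=
      -((mappingCone.fst φ).leftShift (-1) 0 (add_neg_cancel 1)).homOf
    let z : Cochain ((mappingCone φ)⟦(-1 : ℤ)⟧) L (-1) := (mappingCone.snd φ).leftShift (-1) (-1) (zero_add _)
    have key : Cochain.ofHom (q ≫ φ) = δ (-1) 0 (-z) := by
      rw [CochainComplex.HomComplex.δ_neg, Cochain.δ_leftShift _ (-1 : ℤ) (-1) 0 (zero_add _) 1 (add_neg_cancel 1),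
        CochainComplex.mappingCone.δ_snd]
      simp [q, Cochain.leftShift_neg, Cochain.leftShift_comp_zero_cochain]
    exact key.trans (by rw [Cochain.ofHom_zero, add_zero]; rfl)⟩

/-- stage of the construction -/
def Stage {E F : CochainComplex X.Modules ℤ} (α : DerivedCategory.Q.obj E ⟶ DerivedCategory.Q.obj F)
    (b n : ℤ) : Prop :=
  ∃ (G : CochainComplex X.Modules ℤ) (g : G ⟶ E) (h : G ⟶ F), DCoh.VanishesOutside G (n + 1) b ∧
    (∀ i, FlatMod.IsFinLocFree (G.X i)) ∧ (∀ i, n + 1 ≤ i → (mappingCone g).ExactAt i) ∧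
    DerivedCategory.Q.map g ≫ α = DerivedCategory.Q.map h

variable [CompactSpace X] [QuasiSeparatedSpace X]

set_option maxHeartbeats 1000000 in
/-- one more degree -/
theorem stage_pred (hX : PerfAux.HasResolutionProperty X) {E F : CochainComplex X.Modules ℤ}
    (hE : DCoh.IsStrictlyPerfect E) (hF : ∀ i, (F.X i).IsQuasicoherent) (c d : ℤ)
    [F.IsStrictlyGE c] [F.IsStrictlyLE d]
    (α : DerivedCategory.Q.obj E ⟶ DerivedCategory.Q.obj F) {b n : ℤ} (hn : n ≤ b)
    (hs : Stage α b n) : Stage α b (n - 1) := by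
  obtain ⟨G, g, h, hG0, hGfl, hex, hgh⟩ := hs
  obtain ⟨⟨e₀, e₁, hE0⟩, hEfl⟩ := id hE
  let C := mappingCone g
  have hCfl : ∀ i, FlatMod.IsFinLocFree (C.X i) := isFinLocFree_cone_X g hGfl hEfl
  have hC : DCoh.IsStrictlyPerfect C := ⟨⟨min e₀ n, max e₁ b, fun i hi =>
    isZero_cone_X g i (hG0 _ (by omega)) (hE0 _ (by omega))⟩, hCfl⟩
  have hZ : FlatMod.IsFinLocFree (C.cycles n) := PCoh.isFinLocFree_cycles hC n (fun i hi => hex i (by omega)) le_rfl
  -- the new generators
  let z₁ : C.cycles n ⟶ G.X (n + 1) := C.iCycles n ≫ (mappingCone.fst g).1.v n (n + 1) rfl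
  have hz₁ : z₁ ≫ G.d (n + 1) (n + 1 + 1) = 0 := by
    refine neg_eq_zero.1 ?_
    refine (congrArg Neg.neg (Category.assoc _ _ _)).trans ((Preadditive.comp_neg _ _).symm.trans ?_)
    refine (congrArg (C.iCycles n ≫ ·) (mappingCone.d_fst_v g n (n + 1) (n + 1 + 1) rfl rfl).symm).trans ?_
    exact (Category.assoc _ _ _).symm.trans ((congrArg (· ≫ _) (C.iCycles_d n (n + 1))).trans zero_comp)
  -- the extension of `h` to the new generators
  let u₀ : (single X.Modules up (n + 1)).obj (C.cycles n) ⟶ G :=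
    mkHomFromSingle (-z₁) (fun k (hk : n + 1 + 1 = k) => hk ▸ (by rw [Preadditive.neg_comp, hz₁, neg_zero]))
  let z₂ : C.cycles n ⟶ E.X n := C.iCycles n ≫ (mappingCone.snd g).v n n (add_zero n)
  have hz₂ : z₂ ≫ E.d n (n + 1) = -(z₁ ≫ g.f (n + 1)) := by
    have h1 := C.iCycles_d n (n + 1) =≫ (mappingCone.snd g).v (n + 1) (n + 1) (add_zero _)
    rw [Category.assoc, zero_comp, mappingCone.d_snd_v g n (n + 1) rfl, Preadditive.comp_add] at h1
    simp only [← Category.assoc] at h1
    exact eq_neg_of_add_eq_zero_right h1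
  have hg' : δ (-1) 0 (Cochain.fromSingleMk z₂ (show n + 1 + (-1) = n by omega)) = Cochain.ofHom (u₀ ≫ g) := by
    rw [CochainComplex.HomComplex.Cochain.δ_fromSingleMk z₂ _ 0 (n + 1) (add_zero _)]
    refine Cochain.ext₀ _ _ fun p => ?_
    by_cases hp : p = n + 1
    · subst hp
      refine (Cochain.fromSingleMk_v _ _).trans (Eq.trans ?_ (Cochain.ofHom_v (u₀ ≫ g) (n + 1)).symm)
      rw [hz₂, comp_f, mkHomFromSingle_f]
      simp [z₁]
    · exact (isZero_single_obj_X up (n + 1) (C.cycles n) p hp).eq_of_src _ _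
  let g₀ := mappingCone.desc u₀ (Cochain.fromSingleMk z₂ (show n + 1 + (-1) = n by omega)) g hg'
  have hQu : DerivedCategory.Q.map (u₀ ≫ h) = 0 := by
    rw [DerivedCategory.Q.map_comp, ← hgh, ← Category.assoc, ← DerivedCategory.Q.map_comp,
      show u₀ ≫ g = (u₀ ≫ mappingCone.inr u₀) ≫ g₀ by
        rw [Category.assoc]; congr 1; exact (mappingCone.inr_desc u₀ _ g hg').symm,
      DerivedCategory.Q.map_comp, DerivedCategory.Q.map_comp]
    have := comp_distTriang_mor_zero₁₂ _ (DerivedCategory.mappingCone_triangle_distinguished u₀)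
    change DerivedCategory.Q.map u₀ ≫ DerivedCategory.Q.map (mappingCone.inr u₀) = 0 at this
    rw [this, zero_comp, zero_comp]
  obtain ⟨E₁, π₁, s, hE₁, hπ₁, hs⟩ := exists_null hX hF hZ ((-z₁) ≫ h.f (n + 1)) (by
    rw [Category.assoc, h.comm, ← Category.assoc, Preadditive.neg_comp, hz₁, neg_zero, zero_comp]) (by
    refine (congrArg DerivedCategory.Q.map ?_).trans hQu
    exact from_single_hom_ext (by simp [u₀]))
  -- over the first cover
  let u₁ := (single X.Modules up (n + 1)).map π₁ ≫ u₀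
  have hh' : δ (-1) 0 (Cochain.fromSingleMk s (show n + 1 + (-1) = n + 1 - 1 by omega)) = Cochain.ofHom (u₁ ≫ h) := by
    rw [CochainComplex.HomComplex.Cochain.δ_fromSingleMk s _ 0 (n + 1) (add_zero _)]
    refine Cochain.ext₀ _ _ fun p => ?_
    by_cases hp : p = n + 1
    · subst hp
      refine (Cochain.fromSingleMk_v _ _).trans (Eq.trans ?_ (Cochain.ofHom_v (u₁ ≫ h) (n + 1)).symm)
      simp [u₁, u₀, hs, z₁, single_map_f_self]
    · exact (isZero_single_obj_X up (n + 1) E₁ p hp).eq_of_src _ _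
  let h₁ := mappingCone.desc u₁ (Cochain.fromSingleMk s (show n + 1 + (-1) = n + 1 - 1 by omega)) h hh'
  let m₁ := mappingCone.map u₁ u₀ ((single X.Modules up (n + 1)).map π₁) (𝟙 G) (Category.comp_id _)
  let diff : DerivedCategory.Q.obj (mappingCone u₁) ⟶ DerivedCategory.Q.obj F :=
    DerivedCategory.Q.map (m₁ ≫ g₀) ≫ α - DerivedCategory.Q.map h₁
  let T := DerivedCategory.Q.mapTriangle.obj (mappingCone.triangle u₁)
  have hT : T ∈ distTriang _ := DerivedCategory.mappingCone_triangle_distinguished u₁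
  have hdiff : T.mor₂ ≫ diff = 0 := by
    change DerivedCategory.Q.map (mappingCone.inr u₁) ≫ diff = 0
    rw [Preadditive.comp_sub, ← Category.assoc, ← DerivedCategory.Q.map_comp, ← DerivedCategory.Q.map_comp,
      show mappingCone.inr u₁ ≫ m₁ ≫ g₀ = g by simp [m₁, g₀, mappingCone.map],
      show mappingCone.inr u₁ ≫ h₁ = h by simp [h₁], hgh, sub_self]
  obtain ⟨ψ₀, hψ₀⟩ := Triangle.yoneda_exact₂ T.rotate (rot_of_distTriang _ hT) diff hdiff
  let sh := (CochainComplex.singleFunctors X.Modules).shiftIso (1 : ℤ) n (n + 1) (by omega)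
  let e : T.obj₁⟦(1 : ℤ)⟧ ≅ (S n).obj E₁ :=
    ((DerivedCategory.Q.commShiftIso (1 : ℤ)).app ((single X.Modules up (n + 1)).obj E₁)).symm ≪≫
      DerivedCategory.Q.mapIso (sh.app E₁)
  obtain ⟨E₂, π₂, f₂, hE₂, hπ₂, hf₂⟩ := exists_rep_map hX hF c d hE₁ (e.inv ≫ ψ₀)
  -- over the second cover
  let u₂ := (single X.Modules up (n + 1)).map π₂ ≫ u₁
  let m₂ := mappingCone.map u₂ u₁ ((single X.Modules up (n + 1)).map π₂) (𝟙 G) (Category.comp_id _)
  let t : mappingCone u₂ ⟶ F := (mappingCone.triangle u₂).mor₃ ≫ sh.hom.app E₂ ≫ f₂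
  have hm : (mappingCone.triangle u₂).mor₃ ≫ ((single X.Modules up (n + 1)).map π₂)⟦(1 : ℤ)⟧' =
      m₂ ≫ (mappingCone.triangle u₁).mor₃ :=
    ((mappingCone.triangleMap u₂ u₁ ((single X.Modules up (n + 1)).map π₂) (𝟙 G) (Category.comp_id _)).comm₃)
  refine ⟨mappingCone u₂, m₂ ≫ m₁ ≫ g₀, m₂ ≫ h₁ + t, fun i hi => isZero_cone_X _ _
      (isZero_single_obj_X up (n + 1) E₂ (i + 1) (by omega)) (hG0 _ (by omega)),
    isFinLocFree_cone_X _ (fun i => ?_) hGfl, fun i hi => ?_, ?_⟩
  · by_cases hi : i = n + 1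
    · subst hi; exact Groth.KTheory.LocFree.isFinLocFree_of_iso (singleObjXSelf up _ E₂).symm hE₂
    · exact Groth.KTheory.LocFree.isFinLocFree_zero (isZero_single_obj_X up _ E₂ i hi)
  · -- exactness
    let g' := m₂ ≫ m₁ ≫ g₀
    have comm : g ≫ 𝟙 E = mappingCone.inr u₂ ≫ g' := by simp [g', m₂, m₁, g₀, mappingCone.map]
    let χ := mappingCone.map g g' (mappingCone.inr u₂) (𝟙 E) comm
    have hiso : ∀ j, n ≤ j → IsIso (χ.f j) := fun j hj => by
      haveI := isIso_inr_f u₂ (j + 1) (isZero_single_obj_X up (n + 1) E₂ (j + 1 + 1) (by omega))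
      exact isIso_map_f g g' _ comm j
    rcases lt_or_eq_of_le (show n ≤ i by omega) with hni | rfl
    · let φ := (HomologicalComplex.shortComplexFunctor X.Modules up i).map χ
      haveI : IsIso φ.τ₁ := hiso _ (by simp; omega)
      haveI : IsIso φ.τ₂ := hiso _ hni.le
      haveI : IsIso φ.τ₃ := hiso _ (by simp; omega)
      haveI : ShortComplex.QuasiIso φ := ShortComplex.quasiIso_of_epi_of_isIso_of_mono φ
      exact (ShortComplex.exact_iff_of_epi_of_isIso_of_mono φ).1 (hex i (by omega))
    · haveI : IsIso (cyclesMap χ n) :=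
        ShortComplex.isIso_cyclesMap_of_isIso_of_mono' _ (hiso n le_rfl)
          (by haveI := hiso ((up).next n) (by simp); exact (inferInstance : Mono (χ.f ((up).next n))))
      let e' : E₂ ⟶ (mappingCone g').X (n - 1) := (singleObjXSelf up (n + 1) E₂).inv ≫
        (mappingCone.inl u₂).v (n + 1) n (by omega) ≫ (mappingCone.inl g').v n (n - 1) (by omega)
      let w : E₂ ⟶ C.cycles n := π₂ ≫ π₁
      have k₁ : (singleObjXSelf up (n + 1) E₂).inv ≫ (mappingCone.inl u₂).v (n + 1) n (by omega) ≫ g'.f n =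
          w ≫ z₂ := by
        simp [g', m₂, m₁, g₀, w, mappingCone.map, single_map_f_self]
        refine congrArg (π₂ ≫ ·) (congrArg (π₁ ≫ ·) ?_)
        refine (congrArg ((singleObjXSelf up (n + 1) (C.cycles n)).inv ≫ ·) (Cochain.fromSingleMk_v _ _)).trans ?_
        exact Iso.inv_hom_id_assoc _ _
      have k₂ : (singleObjXSelf up (n + 1) E₂).inv ≫ (mappingCone.inl u₂).v (n + 1) n (by omega) ≫
          (mappingCone u₂).d n (n + 1) = -(w ≫ z₁) ≫ (mappingCone.inr u₂).f (n + 1) := by
        rw [mappingCone.inl_v_d u₂ (n + 1) n (n + 1 + 1) (by omega) (by omega),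
          show ((single X.Modules up (n + 1)).obj E₂).d (n + 1) (n + 1 + 1) = 0 from single_obj_d _ _ _ _ _,
          zero_comp, sub_zero]
        simp [u₂, u₁, u₀, w, single_map_f_self]
      have k₃ : C.iCycles n = z₁ ≫ (mappingCone.inl g).v (n + 1) n (by omega) +
          z₂ ≫ (mappingCone.inr g).f n := by
        have := congrArg (C.iCycles n ≫ ·) (mappingCone.id_X g n (n + 1) rfl)
        refine Eq.trans ?_ ((this.symm).trans ?_)
        · exact (Category.comp_id _).symm
        · simp only [z₁, z₂, Preadditive.comp_add, Category.assoc]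
      have he' : e' ≫ (mappingCone g').d (n - 1) n = (w ≫ C.iCycles n) ≫ χ.f n := by
        have r1 : (mappingCone.inl g).v (n + 1) n (by omega) ≫ χ.f n =
            (mappingCone.inr u₂).f (n + 1) ≫ (mappingCone.inl g').v (n + 1) n (by omega) := by
          simp [χ, mappingCone.map]
        have r2 : (mappingCone.inr g).f n ≫ χ.f n = (mappingCone.inr g').f n := by
          simp [χ, mappingCone.map]
        have r3 : e' ≫ (mappingCone g').d (n - 1) n = (w ≫ z₂) ≫ (mappingCone.inr g').f n -
            (-(w ≫ z₁) ≫ (mappingCone.inr u₂).f (n + 1)) ≫ (mappingCone.inl g').v (n + 1) n (by omega) := by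
          rw [← k₁, ← k₂]
          simp only [e', Category.assoc, mappingCone.inl_v_d g' n (n - 1) (n + 1) (by omega) (by omega),
            Preadditive.comp_sub]
        rw [r3, k₃]
        simp only [Preadditive.comp_add, Preadditive.add_comp, Category.assoc, Preadditive.neg_comp,
          sub_neg_eq_add]
        refine (add_comm _ _).trans (congrArg₂ (· + ·) ?_ ?_)
        · exact congrArg (w ≫ ·) (congrArg (z₁ ≫ ·) r1.symm)
        · exact congrArg (w ≫ ·) (congrArg (z₂ ≫ ·) r2.symm)
      have hw : (w ≫ cyclesMap χ n) ≫ (mappingCone g').homologyπ n = 0 := by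
        rw [show w ≫ cyclesMap χ n = e' ≫ (mappingCone g').toCycles (n - 1) n by
          rw [← cancel_mono ((mappingCone g').iCycles n)]; simp [he']; rfl, Category.assoc,
          toCycles_comp_homologyπ, comp_zero]
      haveI : Epi (w ≫ cyclesMap χ n) := epi_comp _ _
      rw [exactAt_iff_isZero_homology]
      exact IsZero.of_epi_eq_zero ((mappingCone g').homologyπ n)
        ((cancel_epi (w ≫ cyclesMap χ n)).1 (hw.trans comp_zero.symm))
  · -- the equation
    have ht : DerivedCategory.Q.map t = DerivedCategory.Q.map m₂ ≫ diff := by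
      rw [hψ₀]
      have h3 : DerivedCategory.Q.map (sh.hom.app E₂) ≫ DerivedCategory.Q.map f₂ =
          DerivedCategory.Q.map (((single X.Modules up (n + 1)).map π₂)⟦(1 : ℤ)⟧') ≫
            DerivedCategory.Q.map (sh.hom.app E₁) ≫ e.inv ≫ ψ₀ := by
        refine (congrArg (DerivedCategory.Q.map (sh.hom.app E₂) ≫ ·) hf₂.symm).trans ?_
        refine (Category.assoc _ _ _).symm.trans (Eq.trans ?_ (Category.assoc _ _ _))
        refine congrArg (· ≫ e.inv ≫ ψ₀) ?_
        exact (DerivedCategory.Q.map_comp _ _).symm.trans ((congrArg DerivedCategory.Q.map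
          (sh.hom.naturality π₂).symm).trans (DerivedCategory.Q.map_comp _ _))
      refine (DerivedCategory.Q.map_comp _ _).trans ?_
      refine (congrArg (DerivedCategory.Q.map (mappingCone.triangle u₂).mor₃ ≫ ·)
        ((DerivedCategory.Q.map_comp _ _).trans h3)).trans ?_
      refine (Category.assoc _ _ _).symm.trans ?_
      refine (congrArg (· ≫ DerivedCategory.Q.map (sh.hom.app E₁) ≫ e.inv ≫ ψ₀)
        ((DerivedCategory.Q.map_comp _ _).symm.trans ((congrArg DerivedCategory.Q.map hm).trans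
          (DerivedCategory.Q.map_comp _ _)))).trans ?_
      refine (Category.assoc _ _ _).trans (congrArg (DerivedCategory.Q.map m₂ ≫ ·) ?_)
      have he : DerivedCategory.Q.map (sh.hom.app E₁) ≫ e.inv =
          (DerivedCategory.Q.commShiftIso (1 : ℤ)).hom.app ((single X.Modules up (n + 1)).obj E₁) := by
        refine (cancel_mono e.hom).1 ((Category.assoc _ _ _).trans ?_)
        refine (congrArg (DerivedCategory.Q.map (sh.hom.app E₁) ≫ ·) e.inv_hom_id).trans ?_
        refine (Category.comp_id _).trans ?_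
        exact (Iso.hom_inv_id_app_assoc (DerivedCategory.Q.commShiftIso (1 : ℤ)) _ _).symm
      refine Eq.trans ?_ (Category.assoc _ _ _).symm
      exact congrArg (_ ≫ ·) ((Category.assoc _ _ _).symm.trans (congrArg (· ≫ ψ₀) he))
    rw [DerivedCategory.Q.map_add, DerivedCategory.Q.map_comp, ht]
    simp [diff, Preadditive.comp_sub, DerivedCategory.Q.map_comp]

/-- all stages -/
theorem stage (hX : PerfAux.HasResolutionProperty X) {E F : CochainComplex X.Modules ℤ}
    (hE : DCoh.IsStrictlyPerfect E) (hF : ∀ i, (F.X i).IsQuasicoherent) (c d : ℤ)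
    [F.IsStrictlyGE c] [F.IsStrictlyLE d] (α : DerivedCategory.Q.obj E ⟶ DerivedCategory.Q.obj F)
    {b : ℤ} (hb : ∀ i, b < i → IsZero (E.X i)) (k : ℕ) : Stage α b (b - k) := by
  induction k with
  | zero =>
    have hz : ∀ i, IsZero ((HomologicalComplex.zero : CochainComplex X.Modules ℤ).X i) := fun i =>
      (HomologicalComplex.eval X.Modules up i).map_isZero HomologicalComplex.isZero_zero
    refine ⟨HomologicalComplex.zero, 0, 0, fun i _ => hz i,
      fun i => Groth.KTheory.LocFree.isFinLocFree_zero (hz i),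
      fun i hi => ExactAt.of_isZero (isZero_cone_X _ i (hz _) (hb i (by omega))), ?_⟩
    rw [DerivedCategory.Q.map_zero, DerivedCategory.Q.map_zero, zero_comp]
  | succ k ih =>
    have := stage_pred hX hE hF c d α (show b - k ≤ b by omega) ih
    rwa [show b - k - 1 = b - (k + 1 : ℕ) by omega] at this

set_option maxHeartbeats 1000000 in
/-- morphisms of strictly perfect complexes in the derived category are roofs -/
theorem exists_roof (hX : PerfAux.HasResolutionProperty X) {E F : CochainComplex X.Modules ℤ}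
    (hE : DCoh.IsStrictlyPerfect E) (hF : DCoh.IsStrictlyPerfect F)
    (α : DerivedCategory.Q.obj E ⟶ DerivedCategory.Q.obj F) :
    ∃ (G : CochainComplex X.Modules ℤ) (g : G ⟶ E) (h : G ⟶ F), DCoh.IsStrictlyPerfect G ∧ QuasiIso g ∧
      DerivedCategory.Q.map g ≫ α = DerivedCategory.Q.map h := by
  obtain ⟨⟨e₀, e₁, hE0⟩, hEfl⟩ := id hE
  obtain ⟨⟨f₀, f₁, hF0⟩, hFfl⟩ := id hF
  haveI : F.IsStrictlyGE f₀ := (CochainComplex.isStrictlyGE_iff F f₀).2 fun i hi => hF0 i (.inl hi)
  haveI : F.IsStrictlyLE f₁ := (CochainComplex.isStrictlyLE_iff F f₁).2 fun i hi => hF0 i (.inr hi)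
  let a := min e₀ f₀
  let b := max e₁ a
  obtain ⟨G, g, h, hG0, hGfl, hex, hgh⟩ := stage hX hE
    (fun i => Groth.KTheory.LocFree.isQCoh (hFfl i)) f₀ f₁ α (b := b) (fun i hi => hE0 i (.inr (by omega)))
    (b - (a - 3)).toNat
  obtain ⟨n, hn⟩ : ∃ n : ℤ, n = b - ((b - (a - 3)).toNat : ℤ) := ⟨_, rfl⟩
  rw [← hn] at hG0 hex
  have hna : n + 3 = a := by omega
  haveI : E.IsStrictlyGE (n + 2) := (CochainComplex.isStrictlyGE_iff E _).2 fun i hi => hE0 i (.inl (by omega))
  haveI : F.IsStrictlyGE (n + 2) := (CochainComplex.isStrictlyGE_iff F _).2 fun i hi => hF0 i (.inl (by omega))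
  let C := mappingCone g
  have hCfl : ∀ i, FlatMod.IsFinLocFree (C.X i) := isFinLocFree_cone_X g hGfl hEfl
  have hC : DCoh.IsStrictlyPerfect C := ⟨⟨min e₀ n, max e₁ b, fun i hi =>
    isZero_cone_X g i (hG0 _ (by omega)) (hE0 _ (by omega))⟩, hCfl⟩
  -- the lowest term of the truncation
  have hlow : FlatMod.IsFinLocFree ((G.truncGE (n + 2)).X (n + 2)) := by
    have hm : Mono (C.opcyclesToCycles (n + 1) (n + 2)) := by
      have hz : IsZero (C.homology (n + 1)) := (exactAt_iff_isZero_homology _ _).1 (hex _ (by omega))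
      exact ((HomologicalComplex.HomologySequence.composableArrows₃_exact C (n + 1) (n + 2) (by simp; omega)).exact 0).mono_g
        (hz.eq_of_src _ _)
    have he : Epi (C.opcyclesToCycles (n + 1) (n + 2)) := by
      have hz : IsZero (C.homology (n + 2)) := (exactAt_iff_isZero_homology _ _).1 (hex _ (by omega))
      exact ((HomologicalComplex.HomologySequence.composableArrows₃_exact C (n + 1) (n + 2) (by simp; omega)).exact 1).epi_f
        (hz.eq_of_tgt _ _)
    haveI := isIso_of_mono_of_epi (C.opcyclesToCycles (n + 1) (n + 2))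
    have hcC : FlatMod.IsFinLocFree (C.opcycles (n + 1)) := Groth.KTheory.LocFree.isFinLocFree_of_iso
      (asIso (C.opcyclesToCycles (n + 1) (n + 2))).symm
      (PCoh.isFinLocFree_cycles hC (n + 2) (fun i hi => hex i (by omega)) le_rfl)
    let p : ∀ i, i + 1 < a → (C.X i ≅ G.X (i + 1)) := fun i hi =>
      { hom := (mappingCone.fst g).1.v i (i + 1) rfl
        inv := (mappingCone.inl g).v (i + 1) i (by omega)
        hom_inv_id := by
          have := mappingCone.id_X g i (i + 1) rfl
          rw [(hE0 i (.inl (by omega))).eq_of_tgt ((mappingCone.snd g).v i i (add_zero i)) 0, zero_comp,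
            add_zero] at this
          exact this
        inv_hom_id := by simp }
    let p₀ : C.X n ≅ G.X (n + 1) :=
      { hom := -(p n (by omega)).hom
        inv := -(p n (by omega)).inv
        hom_inv_id := by rw [Preadditive.neg_comp_neg, Iso.hom_inv_id]
        inv_hom_id := by rw [Preadditive.neg_comp_neg, Iso.inv_hom_id] }
    let p₁ : C.X (n + 1) ≅ G.X (n + 2) := p (n + 1) (by omega) ≪≫ G.XIsoOfEq (by omega)
    have hcomm : C.d n (n + 1) ≫ p₁.hom = p₀.hom ≫ G.d (n + 1) (n + 2) := by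
      simp only [p₁, p₀, p, Iso.trans_hom, Preadditive.neg_comp]
      refine ((Category.assoc _ _ _).symm.trans (congrArg (· ≫ _)
        (mappingCone.d_fst_v g n (n + 1) (n + 1 + 1) rfl rfl))).trans ?_
      simp
    exact Groth.KTheory.LocFree.isFinLocFree_of_iso
      (IsColimit.coconePointUniqueUpToIso (C.opcyclesIsCokernel n (n + 1) (by simp)) (cokernelIsCokernel _) ≪≫
        cokernel.mapIso (C.d n (n + 1)) (G.d (n + 1) (n + 2)) p₀ p₁ hcomm ≪≫
        (G.truncGEXIsoOpcycles (n + 2) ≪≫
          IsColimit.coconePointUniqueUpToIso (G.opcyclesIsCokernel (n + 1) (n + 2) (by simp; omega))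
            (cokernelIsCokernel _)).symm) hcC
  let G' := G.truncGE (n + 2)
  let g' : G' ⟶ E := CochainComplex.truncGEMap g (n + 2) ≫ inv (E.πTruncGE (n + 2))
  let h' : G' ⟶ F := CochainComplex.truncGEMap h (n + 2) ≫ inv (F.πTruncGE (n + 2))
  have hg' : G.πTruncGE (n + 2) ≫ g' = g := by simp [g', reassoc_of% (CochainComplex.πTruncGE_naturality g (n + 2))]
  have hh' : G.πTruncGE (n + 2) ≫ h' = h := by simp [h', reassoc_of% (CochainComplex.πTruncGE_naturality h (n + 2))]
  have hG' : DCoh.IsStrictlyPerfect G' := ⟨⟨n + 2, max b (n + 2), fun i hi => by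
    rcases hi with hi | hi
    · exact G'.isZero_of_isStrictlyGE (n + 2) i hi
    · exact (G.truncGEXIso (n + 2) i (by omega)).isZero_iff.2 (hG0 i (.inr (by omega)))⟩, fun i => by
    rcases lt_trichotomy i (n + 2) with hi | rfl | hi
    · exact Groth.KTheory.LocFree.isFinLocFree_zero (G'.isZero_of_isStrictlyGE (n + 2) i hi)
    · exact hlow
    · exact Groth.KTheory.LocFree.isFinLocFree_of_iso (G.truncGEXIso (n + 2) i hi).symm (hGfl i)⟩
  let H := fun i => DerivedCategory.homologyFunctor X.Modules i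
  have hπ : ∀ i, n + 2 ≤ i → IsIso ((H i).map (DerivedCategory.Q.map (G.πTruncGE (n + 2)))) := fun i hi => by
    haveI : QuasiIsoAt (G.πTruncGE (n + 2)) i := G.quasiIsoAt_πTruncGE (n + 2) i hi
    haveI : IsIso (homologyMap (G.πTruncGE (n + 2)) i) := inferInstance
    exact (NatIso.isIso_map_iff (DerivedCategory.homologyFunctorFactors X.Modules i) _).2 ‹_›
  have hH : ∀ i, IsIso ((H i).map (DerivedCategory.Q.map g')) := fun i => by
    rcases lt_or_ge i (n + 2) with hi | hi
    · exact isIso_of_source_target_iso_zero _ (DerivedCategory.isZero_of_isGE (DerivedCategory.Q.obj G') (n + 2) i hi).isoZero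
        (DerivedCategory.isZero_of_isGE (DerivedCategory.Q.obj E) (n + 2) i hi).isoZero
    · let T := DerivedCategory.Q.mapTriangle.obj (mappingCone.triangle g)
      have hT : T ∈ distTriang _ := DerivedCategory.mappingCone_triangle_distinguished g
      have hz : ∀ j, n + 1 ≤ j → IsZero ((H j).obj T.obj₃) := fun j hj =>
        ((exactAt_iff_isZero_homology _ _).1 (hex j hj)).of_iso (KFlat.hdIso _ j)
      haveI : Mono ((H i).map T.mor₁) :=
        (DerivedCategory.HomologySequence.mono_homologyMap_mor₁_iff T hT (i - 1) i).2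
          ((hz (i - 1) (by omega)).eq_of_src _ _)
      haveI : Epi ((H i).map T.mor₁) :=
        (DerivedCategory.HomologySequence.epi_homologyMap_mor₁_iff T hT i).2
          ((hz i (by omega)).eq_of_tgt _ _)
      haveI h1 : IsIso ((H i).map (DerivedCategory.Q.map g)) := isIso_of_mono_of_epi ((H i).map T.mor₁)
      haveI := hπ i hi
      have heq : (H i).map (DerivedCategory.Q.map (G.πTruncGE (n + 2))) ≫ (H i).map (DerivedCategory.Q.map g') =
          (H i).map (DerivedCategory.Q.map g) := by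
        rw [← Functor.map_comp, ← Functor.map_comp, hg']
      exact @IsIso.of_isIso_comp_left _ _ _ _ _ _ _ (hπ i hi) (heq ▸ h1)
  haveI hq : QuasiIso g' := (DerivedCategory.isIso_Q_map_iff_quasiIso _ _).1
    ((DerivedCategory.isIso_iff _ _).2 hH)
  refine ⟨G', g', h', hG', hq, ?_⟩
  -- the equation
  let D := DerivedCategory.Q.map g' ≫ α - DerivedCategory.Q.map h'
  obtain ⟨Z, p, q, hT⟩ := distinguished_cocone_triangle (DerivedCategory.Q.map (G.πTruncGE (n + 2)))
  let T := Triangle.mk (DerivedCategory.Q.map (G.πTruncGE (n + 2))) p q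
  have hD : T.mor₁ ≫ D = 0 := by
    change DerivedCategory.Q.map _ ≫ (_ - _) = 0
    rw [Preadditive.comp_sub, ← Category.assoc, ← DerivedCategory.Q.map_comp, ← DerivedCategory.Q.map_comp,
      hg', hh', hgh, sub_self]
  obtain ⟨χ, hχ⟩ := Triangle.yoneda_exact₂ T hT D hD
  haveI : T.obj₃.IsLE n := (DerivedCategory.isLE_iff _ _).2 fun j hj => by
    refine (DerivedCategory.HomologySequence.exact₃ T hT j (j + 1)).isZero_X₂ ?_ ?_
    · rcases lt_or_ge j (n + 2) with h2 | h2
      · exact (DerivedCategory.isZero_of_isGE (DerivedCategory.Q.obj G') (n + 2) j h2).eq_of_src _ _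
      · haveI := hπ j h2
        haveI : Epi ((H j).map T.mor₁) := (inferInstance : Epi ((H j).map (DerivedCategory.Q.map (G.πTruncGE (n + 2)))))
        exact (cancel_epi ((H j).map T.mor₁ : _)).1 ((((DerivedCategory.homologyFunctor X.Modules j).map_comp _ _).symm.trans ((congrArg _ (comp_distTriang_mor_zero₁₂ T hT)).trans (Functor.map_zero _ _ _))).trans comp_zero.symm)
    · haveI := hπ (j + 1) (by omega)
      exact (DerivedCategory.HomologySequence.mono_homologyMap_mor₁_iff T hT j (j + 1)).1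
        (inferInstance : Mono ((H (j + 1)).map (DerivedCategory.Q.map (G.πTruncGE (n + 2)))))
  haveI : (DerivedCategory.Q.obj F).IsGE (n + 1) := (DerivedCategory.isGE_iff _ _).2 fun j hj =>
    DerivedCategory.isZero_of_isGE _ (n + 2) j (by omega)
  have hχ0 : χ = 0 := DerivedCategory.TStructure.t.zero χ n (n + 1) (by omega)
  exact sub_eq_zero.1 (hχ.trans (by rw [hχ0]; exact comp_zero))

/-- homotopic after a quasi-isomorphism from a strictly perfect complex -/
theorem exists_homotopy (hX : PerfAux.HasResolutionProperty X) {E F : CochainComplex X.Modules ℤ}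
    (hE : DCoh.IsStrictlyPerfect E) (hF : DCoh.IsStrictlyPerfect F) (α β : E ⟶ F)
    (hαβ : DerivedCategory.Q.map α = DerivedCategory.Q.map β) :
    ∃ (G : CochainComplex X.Modules ℤ) (γ : G ⟶ E), DCoh.IsStrictlyPerfect G ∧ QuasiIso γ ∧
      Nonempty (Homotopy (γ ≫ α) (γ ≫ β)) := by
  let f := α - β
  have hf : DerivedCategory.Q.map f = 0 := by rw [Functor.map_sub, hαβ, sub_self]
  let K := CochainComplex.mappingCocone f
  obtain ⟨⟨e₀, e₁, hE0⟩, hEfl⟩ := id hE
  obtain ⟨⟨f₀, f₁, hF0⟩, hFfl⟩ := id hF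
  have hK : DCoh.IsStrictlyPerfect K := by
    refine ⟨⟨min e₀ (f₀ + 1), max e₁ (f₁ + 1), fun i hi => ?_⟩, fun i => ?_⟩
    · exact (isZero_cone_X f (i + -1) (hE0 _ (by omega)) (hF0 _ (by omega)))
    · exact isFinLocFree_cone_X f hEfl hFfl (i + -1)
  let p : K ⟶ E := CochainComplex.mappingCocone.fst f
  let T := DerivedCategory.Q.mapTriangle.obj (CochainComplex.mappingCocone.triangle f)
  have hT : T ∈ distTriang _ := DerivedCategory.mappingCocone_triangle_distinguished f
  obtain ⟨σ, hσ⟩ := Triangle.coyoneda_exact₂ T hT (𝟙 (DerivedCategory.Q.obj E)) (by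
    exact (Category.id_comp _).trans hf)
  obtain ⟨G, g, h, hG, hg, hgh⟩ := exists_roof hX hE hK σ
  have hp : DerivedCategory.Q.map (h ≫ p) = DerivedCategory.Q.map g := by
    rw [DerivedCategory.Q.map_comp, ← hgh, Category.assoc]
    refine Eq.trans ?_ ((congrArg (DerivedCategory.Q.map g ≫ ·) hσ.symm).trans (Category.comp_id _))
    rfl
  refine ⟨G, h ≫ p, hG, (DerivedCategory.isIso_Q_map_iff_quasiIso _ _).1 (hp ▸ inferInstance), ⟨?_⟩⟩
  refine Homotopy.equivSubZero.symm ((Homotopy.ofEq (by
    rw [Category.assoc, Category.assoc, ← Preadditive.comp_sub, ← Preadditive.comp_sub])).trans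
    (((coconeHomotopy f).compLeft h).trans (Homotopy.ofEq comp_zero)))

end Groth.DerivedCoh.ResProp
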