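import Groth.Agent.DerivedCoh.ResProp.Roofs
import Groth.Agent.DerivedCoh.PCohDescent.Main
import Groth.Agent.DerivedCoh.StalkAmp.Perfect
import Groth.Agent.Misc4.KoszulSummand

/-!
Perfect objects are strictly perfect complexes on a scheme with the resolution property.
-/

universe u

open CategoryTheory CategoryTheory.Limits CategoryTheory.Pretriangulated AlgebraicGeometry HomologicalComplex
open CochainComplex (mappingCone)

namespace Groth.DerivedCoh.ResProp

attribute [local instance] HasDerivedCategory.standard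
set_option linter.style.haveILetI false

local notation "up" => ComplexShape.up ℤ

variable {X : Scheme.{u}}

/-- removing a top degree without cohomology from a flat amplitude -/
theorem flatAmp_pred {K : DCoh.D X} {a b : ℤ} (hab : a < b) (h : DCoh.HasFlatAmplitudeIn a b K)
    (hb : IsZero (DCoh.HD K b)) : DCoh.HasFlatAmplitudeIn a (b - 1) K := by
  obtain ⟨E, h0, hfl, ⟨e⟩⟩ := h
  have hex : ∀ i, b - 1 < i → E.ExactAt i := fun i hi => by
    rcases lt_or_eq_of_le (show b ≤ i by omega) with hi' | rfl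
    · exact ExactAt.of_isZero (h0 i (.inr hi'))
    · exact (KFlat.isZero_hd_toD_iff E b).1 (KFlat.isZero_hd_of_iso e hb)
  haveI : E.IsLE (b - 1) := (CochainComplex.isLE_iff E _).2 hex
  haveI : QuasiIso (E.ιTruncLE (b - 1)) := (E.quasiIso_ιTruncLE_iff _).2 inferInstance
  refine ⟨E.truncLE (b - 1), fun i hi => ?_, fun i => ?_, ⟨asIso (DerivedCategory.Q.map (E.ιTruncLE (b - 1))) ≪≫ e⟩⟩
  · rcases hi with hi | hi
    · exact (E.truncLEXIso (b - 1) i (by omega)).isZero_iff.2 (h0 i (.inl hi))
    · exact (E.truncLE (b - 1)).isZero_of_isStrictlyLE (b - 1) i hi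
  · rcases lt_trichotomy i (b - 1) with hi | rfl | hi
    · exact Groth.CohTwo.isFlat_of_iso (E.truncLEXIso (b - 1) i hi) (hfl i)
    · have hep : Epi (E.d (b - 1) b) := by
        have hz := (exactAt_iff_isZero_homology _ _).1 (hex b (by omega))
        haveI : Epi (E.toCycles (b - 1) b) :=
          (ShortComplex.exact_of_g_is_cokernel (ShortComplex.mk (E.toCycles (b - 1) b) (E.homologyπ b)
            (E.toCycles_comp_homologyπ _ _)) (E.homologyIsCokernel (b - 1) b (by simp))).epi_f (hz.eq_of_tgt _ _)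
        haveI : IsIso (E.iCycles b) := E.isIso_iCycles b (b + 1) (by simp)
          ((h0 (b + 1) (.inr (by omega))).eq_of_tgt _ _)
        rw [← E.toCycles_i (b - 1) b]
        exact epi_comp _ _
      let S := ShortComplex.mk (E.iCycles (b - 1)) (E.d (b - 1) b) (E.iCycles_d _ _)
      have hS : S.ShortExact :=
        { exact := ShortComplex.exact_of_f_is_kernel S (E.cyclesIsKernel (b - 1) b (by simp)) }
      exact Groth.CohTwo.isFlat_of_iso (E.truncLEXIsoCycles (b - 1)) (PCoh.isFlat₁ _ hS (hfl (b - 1)) (hfl b))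
    · exact KFlat.isFlat_of_isZero ((E.truncLE (b - 1)).isZero_of_isStrictlyLE (b - 1) i hi)

variable [CompactSpace X] [QuasiSeparatedSpace X]

/-- perfect objects of amplitude of length `d` are strictly perfect complexes -/
theorem exists_strict_amp (hX : PerfAux.HasResolutionProperty X) (d : ℕ) :
    ∀ (K : DCoh.D X) (a : ℤ), DCoh.IsPerfect K → DCoh.HasFlatAmplitudeIn a (a + d) K →
      ∃ E : CochainComplex X.Modules ℤ, DCoh.IsStrictlyPerfect E ∧ Nonempty (DCoh.toD X E ≅ K) := by
  induction d with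
  | zero =>
    intro K a hK hamp
    obtain ⟨E, h0, hfl, ⟨e⟩⟩ := hamp
    refine ⟨E, ⟨⟨a, a, fun i hi => h0 i (by simpa using hi)⟩, fun i => ?_⟩, ⟨e⟩⟩
    by_cases hi : i = a
    · subst hi
      have hH : E.homology i ≅ E.X i :=
        (ShortComplex.HomologyData.ofZeros _ ((h0 _ (.inl (by simp))).eq_of_src _ _)
          ((h0 _ (.inr (by simp))).eq_of_tgt _ _)).left.homologyIso
      let eX : DCoh.HD K i ≅ E.X i :=
        (DerivedCategory.homologyFunctor _ i).mapIso e.symm ≪≫ KFlat.hdIso E i ≪≫ hH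
      have hz : ∀ q, i - 1 + 1 < q → IsZero (DCoh.HD K q) := fun q hq =>
        KFlat.isZero_hd_of_iso e.symm ((KFlat.isZero_hd_toD_iff E q).2 (ExactAt.of_isZero (h0 q (.inr (by simp; omega)))))
      have hfp := PCoh.isFP_top (PCoh.isPseudoCoherentD_of_isPerfect hK (i - 1)) hz
      rw [show i - 1 + 1 = i by omega] at hfp
      haveI hq : (DCoh.HD K i).IsQuasicoherent := Groth.Misc4.Thomason.isQCohD_of_isPerfect hK i
      haveI : (E.X i).IsQuasicoherent :=
        (SheafOfModules.isQuasicoherent (R := X.ringCatSheaf)).prop_of_iso eX hq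
      refine Groth.KTheory.LocFree.isFinLocFree_of_iso eX
        (Groth.LocFree.isFinLocFree_of_flat (fun x => ?_) (Groth.CohTwo.isFlat_of_iso eX (hfl i)))
      obtain ⟨U, hU, hx⟩ := Groth.QCohMod.exists_affine_mem x
      exact ⟨U, hU, hx, Groth.PropsBasic.FPSections.finitePresentation_sections _ hfp hU⟩
    · exact Groth.KTheory.LocFree.isFinLocFree_zero (h0 i (by simp; omega))
  | succ d ih =>
    intro K a hK hamp
    obtain ⟨b, hb⟩ : ∃ b : ℤ, b = a + ((d + 1 : ℕ) : ℤ) := ⟨_, rfl⟩
    rw [← hb] at hamp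
    obtain ⟨F, hF0, hFfl, ⟨eF⟩⟩ := id hamp
    have hKhi : ∀ i, b < i → IsZero (DCoh.HD K i) := fun i hi =>
      KFlat.isZero_hd_of_iso eF.symm ((KFlat.isZero_hd_toD_iff F i).2 (ExactAt.of_isZero (hF0 i (.inr hi))))
    have hKlo : ∀ i, i < a → IsZero (DCoh.HD K i) := fun i hi =>
      KFlat.isZero_hd_of_iso eF.symm ((KFlat.isZero_hd_toD_iff F i).2 (ExactAt.of_isZero (hF0 i (.inl hi))))
    haveI : K.IsLE b := (DerivedCategory.isLE_iff _ _).2 hKhi
    haveI : K.IsGE a := (DerivedCategory.isGE_iff _ _).2 hKlo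
    have hKq := Groth.Misc4.Thomason.isQCohD_of_isPerfect hK
    haveI : (DCoh.HD K b).IsQuasicoherent := hKq b
    obtain ⟨E₁, q₁, hE₁, hq₁⟩ := hX (DCoh.HD K b) (hKq b)
      (PCoh.isFT_top (PCoh.isPseudoCoherentD_of_isPerfect hK b) hKhi)
    -- lift the generators
    obtain ⟨A, B, hA, hB, i, p, δ, hT⟩ := DerivedCategory.TStructure.t.exists_triangle K (b - 1) b (by omega)
    let T := Triangle.mk i p δ
    haveI : A.IsLE (b - 1) := ⟨hA⟩
    haveI : B.IsGE b := ⟨hB⟩
    haveI : B.IsLE b := (DerivedCategory.isLE_iff B b).2 fun q hq =>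
      (DerivedCategory.HomologySequence.exact₃ T hT q (q + 1)).isZero_X₂
        ((DerivedCategory.isZero_of_isLE K b q hq).eq_of_src _ _)
        ((DerivedCategory.isZero_of_isLE A (b - 1) (q + 1) (by omega)).eq_of_tgt _ _)
    haveI : A.IsGE a := (DerivedCategory.isGE_iff A a).2 fun q hq =>
      (DerivedCategory.HomologySequence.exact₁ T hT (q - 1) q).isZero_X₂
        ((DerivedCategory.isZero_of_isGE B b (q - 1) (by omega)).eq_of_src _ _)
        ((DerivedCategory.isZero_of_isGE K a q hq).eq_of_tgt _ _)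
    let H := DerivedCategory.homologyFunctor X.Modules
    haveI hpiso : IsIso ((H b).map p) := by
      haveI : Mono ((H b).map T.mor₂) := (DerivedCategory.HomologySequence.mono_homologyMap_mor₂_iff T hT b).2
        ((DerivedCategory.isZero_of_isLE A (b - 1) b (by omega)).eq_of_src _ _)
      haveI : Epi ((H b).map T.mor₂) := (DerivedCategory.HomologySequence.epi_homologyMap_mor₂_iff T hT b (b + 1)).2
        ((DerivedCategory.isZero_of_isLE A (b - 1) (b + 1) (by omega)).eq_of_tgt _ _)
      exact isIso_of_mono_of_epi ((H b).map T.mor₂)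
    have hAq : DCoh.IsQCohD A := fun q => by
      by_cases hq : q ≤ b - 1
      · haveI : Mono ((H q).map T.mor₁) :=
          (DerivedCategory.HomologySequence.mono_homologyMap_mor₁_iff T hT (q - 1) q).2
            ((DerivedCategory.isZero_of_isGE B b (q - 1) (by omega)).eq_of_src _ _)
        haveI : Epi ((H q).map T.mor₁) :=
          (DerivedCategory.HomologySequence.epi_homologyMap_mor₁_iff T hT q).2
            ((DerivedCategory.isZero_of_isGE B b q (by omega)).eq_of_tgt _ _)
        haveI := isIso_of_mono_of_epi ((H q).map T.mor₁)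
        exact (SheafOfModules.isQuasicoherent (R := X.ringCatSheaf)).prop_of_iso
          (asIso ((H q).map T.mor₁)).symm (hKq q)
      · exact Groth.Misc4.QCohDPerf.isQCoh_isZero (DerivedCategory.isZero_of_isLE A (b - 1) q (by omega))
    obtain ⟨W, ⟨eB⟩⟩ := DerivedCategory.exists_iso_singleFunctor_obj_of_isGE_of_isLE B b
    let ν := DerivedCategory.singleFunctorCompHomologyFunctorIso X.Modules b
    let w : E₁ ⟶ W := q₁ ≫ (H b).map p ≫ (H b).map eB.hom ≫ ν.hom.app W
    let sQ := DerivedCategory.singleFunctorIsoCompQ X.Modules b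
    let ψ : (S b).obj E₁ ⟶ B := sQ.inv.app E₁ ≫ (DerivedCategory.singleFunctor X.Modules b).map w ≫ eB.inv
    haveI : (A⟦(1 : ℤ)⟧).IsGE (a - 1) := DerivedCategory.TStructure.t.isGE_shift A a 1 (a - 1) (by omega)
    haveI : (A⟦(1 : ℤ)⟧).IsLE (b - 1) :=
      haveI := DerivedCategory.TStructure.t.isLE_shift A (b - 1) 1 (b - 2) (by omega)
      DerivedCategory.TStructure.t.isLE_of_le _ (b - 2) (b - 1) (by omega)
    obtain ⟨E₂, π, hE₂, hπ, hπ0⟩ := exists_killedAt hX hE₁ b
      (Groth.Misc4.QCohDPerf.isQCohD_shift hAq 1) (a - 1) (ψ ≫ δ)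
    obtain ⟨φ, hφ⟩ := Triangle.coyoneda_exact₃ T hT ((S b).map π ≫ ψ)
      ((Category.assoc _ _ _).trans hπ0)
    haveI hψepi : Epi ((H b).map ψ) := by
      have hw : Epi ((DerivedCategory.singleFunctor X.Modules b ⋙ H b).map w) := by
        rw [← NatIso.naturality_2 ν w]
        haveI : Epi w := epi_comp' hq₁ (epi_comp' inferInstance (epi_comp' inferInstance inferInstance))
        simp only [Functor.id_map]
        infer_instance
      haveI : Epi ((H b).map ((DerivedCategory.singleFunctor X.Modules b).map w)) := hw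
      simp only [ψ, Functor.map_comp]
      exact epi_comp' (@IsIso.epi_of_iso _ _ _ _ _ ((@Functor.map_isIso _ _ _ _ _ _ (H b) _ (sQ.app E₁).isIso_inv))) (epi_comp' this inferInstance)
    haveI hφepi : Epi ((H b).map φ) := by
      have h1 : (H b).map φ ≫ (H b).map p = (H b).map ((S b).map π) ≫ (H b).map ψ := by
        rw [← Functor.map_comp, ← Functor.map_comp]
        exact congrArg _ hφ.symm
      haveI : Epi ((H b).map ((S b).map π)) := by
        let ν' := DerivedCategory.homologyFunctorFactors X.Modules b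
        have h2 : (H b).map ((S b).map π) =
            (ν'.hom.app _ ≫ (singleObjHomologySelfIso up b E₂).hom) ≫ π ≫
              (singleObjHomologySelfIso up b E₁).inv ≫ ν'.inv.app _ := by
          refine (NatIso.naturality_2 ν' _).symm.trans ?_
          refine Eq.trans ?_ (Category.assoc _ _ _).symm
          refine congrArg (_ ≫ ·) ?_
          refine Eq.trans ?_ (Category.assoc _ _ _)
          refine Eq.trans ?_ ((congrArg (· ≫ _) (singleObjHomologySelfIso_hom_naturality up b π)))
          refine Eq.trans ?_ (Category.assoc _ _ _).symm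
          exact (congrArg (_ ≫ ·) (Iso.hom_inv_id_assoc _ _)).symm
        rw [h2]
        exact epi_comp' (epi_comp' inferInstance inferInstance) (epi_comp' hπ (epi_comp' inferInstance (@IsIso.epi_of_iso _ _ _ _ _ (ν'.app _).isIso_inv)))
      have h3 : (H b).map φ = ((H b).map ((S b).map π) ≫ (H b).map ψ) ≫ inv ((H b).map p) := by
        rw [← h1, Category.assoc]
        exact ((congrArg (_ ≫ ·) (IsIso.hom_inv_id ((H b).map p))).trans (Category.comp_id _)).symm
      rw [h3]
      exact epi_comp' (epi_comp' this hψepi) (@IsIso.epi_of_iso _ _ _ _ _ (@IsIso.inv_isIso _ _ _ _ _ hpiso))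
    -- the cone
    obtain ⟨C, r, s, hT'⟩ := distinguished_cocone_triangle φ
    let T' := Triangle.mk φ r s
    let P₁ := (single X.Modules up b).obj E₂
    have hP₁ : DCoh.IsStrictlyPerfect P₁ := ⟨⟨b, b, fun q hq => isZero_single_obj_X up b E₂ q (by omega)⟩,
      fun q => by
        by_cases hq : q = b
        · subst hq; exact Groth.KTheory.LocFree.isFinLocFree_of_iso (singleObjXSelf up _ E₂).symm hE₂
        · exact Groth.KTheory.LocFree.isFinLocFree_zero (isZero_single_obj_X up b E₂ q hq)⟩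
    have hC : DCoh.IsPerfect C := Groth.KTheory.Perf.isPerfect_obj₃ T' hT' (Fibre.isPerfect_toD hP₁) hK
    have hCamp : DCoh.HasFlatAmplitudeIn a b C := KFlat.flatAmp_of_torAmp C a b (by omega)
      (KFlat.torAmp₃ T' hT' (fun G _ j hj => by
        refine KFlat.torAmp_of_flatAmp (a := b) (b := b) ⟨P₁, fun q hq => isZero_single_obj_X up b E₂ q (by omega),
          fun q => PCoh.isFlat_of_isFinLocFree (hP₁.2 q), ⟨Iso.refl _⟩⟩ G j (by omega)) (KFlat.torAmp_of_flatAmp hamp))
    have hCb : IsZero (DCoh.HD C b) :=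
      (DerivedCategory.HomologySequence.exact₃ T' hT' b (b + 1)).isZero_X₂
        ((DerivedCategory.HomologySequence.epi_homologyMap_mor₁_iff T' hT' b).1 hφepi)
        ((DerivedCategory.isZero_of_isLE ((S b).obj E₂) b (b + 1) (by omega)).eq_of_tgt _ _)
    obtain ⟨P, hP, ⟨eP⟩⟩ := ih C a hC (by
      have := flatAmp_pred (by omega) hCamp hCb
      rwa [show b - 1 = a + (d : ℤ) by omega] at this)
    -- realise the connecting map
    let sh := (CochainComplex.singleFunctors X.Modules).shiftIso (1 : ℤ) (b - 1) b (by omega)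
    let e₁ : ((S b).obj E₂)⟦(1 : ℤ)⟧ ≅ (S (b - 1)).obj E₂ :=
      ((DerivedCategory.Q.commShiftIso (1 : ℤ)).app P₁).symm ≪≫ DerivedCategory.Q.mapIso (sh.app E₂)
    let P₂ := (single X.Modules up (b - 1)).obj E₂
    have hP₂ : DCoh.IsStrictlyPerfect P₂ := ⟨⟨b - 1, b - 1, fun q hq => isZero_single_obj_X up _ E₂ q (by omega)⟩,
      fun q => by
        by_cases hq : q = b - 1
        · subst hq; exact Groth.KTheory.LocFree.isFinLocFree_of_iso (singleObjXSelf up _ E₂).symm hE₂
        · exact Groth.KTheory.LocFree.isFinLocFree_zero (isZero_single_obj_X up _ E₂ q hq)⟩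
    obtain ⟨G, g, h, hG, hg, hgh⟩ := exists_roof hX hP hP₂ (eP.hom ≫ s ≫ e₁.hom)
    obtain ⟨⟨g₀, g₁, hG0⟩, hGfl⟩ := id hG
    refine ⟨CochainComplex.mappingCocone h, ⟨⟨min g₀ b, max g₁ b, fun q hq => ?_⟩, fun q => ?_⟩, ?_⟩
    · exact isZero_cone_X h (q + -1) (hG0 _ (by omega)) (isZero_single_obj_X up _ E₂ _ (by omega))
    · exact isFinLocFree_cone_X h hGfl hP₂.2 (q + -1)
    haveI := hg
    let e₂ : DerivedCategory.Q.obj G ≅ C := asIso (DerivedCategory.Q.map g) ≪≫ eP
    let T₂ := (DerivedCategory.Q.mapTriangle.obj (CochainComplex.mappingCocone.triangle h)).rotate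
    have hT₂ : T₂ ∈ distTriang _ :=
      rot_of_distTriang _ (DerivedCategory.mappingCocone_triangle_distinguished h)
    let T₁ := T'.rotate.rotate
    have hT₁ : T₁ ∈ distTriang _ := rot_of_distTriang _ (rot_of_distTriang _ hT')
    let I := isoTriangleOfIso₁₂ T₁ T₂ hT₁ hT₂ e₂.symm e₁ (by
      change s ≫ e₁.hom = (eP.inv ≫ inv (DerivedCategory.Q.map g)) ≫ DerivedCategory.Q.map h
      rw [← hgh]
      simp
      rfl)
    exact ⟨(shiftFunctor (DCoh.D X) (1 : ℤ)).preimageIso
      ((Triangle.π₃.mapIso I).symm)⟩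

/-- perfect objects are strictly perfect complexes -/
theorem exists_strict (hX : PerfAux.HasResolutionProperty X) {K : DCoh.D X} (hK : DCoh.IsPerfect K) :
    ∃ E : CochainComplex X.Modules ℤ, DCoh.IsStrictlyPerfect E ∧ Nonempty (DCoh.toD X E ≅ K) := by
  obtain ⟨a, b, E, h0, hfl, e⟩ := PCohDescent.exists_flatAmp_of_isPerfect hK
  exact exists_strict_amp hX (b - a).toNat K a hK
    ⟨E, fun i hi => h0 i (by omega), hfl, e⟩

end Groth.DerivedCoh.ResProp
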